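import Cfsg.Agent.J1Unique.Five

/-!
# Janko's first group: the good or bad configuration
-/

set_option autoImplicit false

namespace Cfsg.Agent.J1Unique

open Subgroup

variable {G : Type*} [Group G]

theorem map_wR {L : Type*} [Group L] (f : L →* G) (x c : L) : f (wR x c) = wR (f x) (f c) := by
  simp [wR]

theorem map_wS {L : Type*} [Group L] (f : L →* G) (x c : L) : f (wS x c) = wS (f x) (f c) := by
  simp [wS, map_wR f]

theorem map_wA {L : Type*} [Group L] (f : L →* G) (x c : L) : f (wA x c) = wA (f x) (f c) := by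
  simp [wA]

theorem map_wB {L : Type*} [Group L] (f : L →* G) (x c : L) : f (wB x c) = wB (f x) (f c) := by
  simp [wB]

theorem map_wKA {L : Type*} [Group L] (f : L →* G) (x c : L) : f (wKA x c) = wKA (f x) (f c) := by
  simp [wKA]

theorem map_wKB {L : Type*} [Group L] (f : L →* G) (x c : L) : f (wKB x c) = wKB (f x) (f c) := by
  simp [wKB]

theorem conj_pow_of_sq {c w : G} (h : c * w * c⁻¹ = w ^ 2) (i : ℕ) :
    c * w ^ i * c⁻¹ = w ^ (2 * i) := by
  rw [← conj_pow, h, ← pow_mul]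

/-- The conjugates of `t` by powers of `w`. -/
def Tw (t w : G) (i : ℕ) : G := w ^ i * t * (w ^ i)⁻¹

theorem Tw_step (t w : G) (i : ℕ) : w * Tw t w i * w⁻¹ = Tw t w (i + 1) := by
  simp only [Tw, pow_succ', mul_inv_rev, mul_assoc]

theorem Tw_double {c t w : G} (h : c * w * c⁻¹ = w ^ 2) (hc : Commute t c) (i : ℕ) :
    c * Tw t w i * c⁻¹ = Tw t w (2 * i) := by
  have h2 : c * t * c⁻¹ = t := by rw [← hc.eq, mul_inv_cancel_right]
  calc c * Tw t w i * c⁻¹ = (c * w ^ i * c⁻¹) * (c * t * c⁻¹) * (c * w ^ i * c⁻¹)⁻¹ := by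
        simp only [Tw]; group
    _ = Tw t w (2 * i) := by rw [conj_pow_of_sq h, h2, Tw]

theorem Tw_mod {t w : G} (h7 : w ^ 7 = 1) (i : ℕ) : Tw t w (i + 7) = Tw t w i := by
  rw [Tw, pow_add, h7, mul_one, Tw]

namespace Frame

variable {t : G} (F : Frame t)

include F

theorem finish {w : G} {a k0 v d : A5} (hv : InV v) (hw : w * F.ι aR * w⁻¹ = F.ι v)
    (ha : ∃ i < 5, a ^ i = k0 ∨ (aR * a * aR) ^ i = k0) (hd3 : d ^ 3 = 1) (hd1 : d ≠ 1)
    (hdR : aR * d * aR = d⁻¹) (hcomm : Commute (F.ι d) (w * F.ι a * w⁻¹)) :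
    Commute (F.ι aA) (w * F.ι k0 * w⁻¹) ∨ Commute (F.ι aB) (w * F.ι k0 * w⁻¹) := by
  have main : ∀ (e b : A5) (i : ℕ), e ^ 3 = 1 → e ≠ 1 → aR * e * aR = e⁻¹ → b ^ i = k0 →
      Commute (F.ι e) (w * F.ι b * w⁻¹) →
      Commute (F.ι aA) (w * F.ι k0 * w⁻¹) ∨ Commute (F.ι aB) (w * F.ι k0 * w⁻¹) := by
    intro e b i he3 he1 heR hb hc
    obtain ⟨j, -, hj⟩ := three_inverted e he3 he1 heR
    have h : Commute (F.ι (e ^ j)) (w * F.ι k0 * w⁻¹) := by
      rw [← hb, map_pow, map_pow, ← conj_pow]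
      exact hc.pow_pow j i
    rcases hj with hj | hj <;> rw [hj] at h
    · exact .inl h
    · exact .inr h
  obtain ⟨i, -, h | h⟩ := ha
  · exact main d a i hd3 hd1 hdR h hcomm
  · have hvv : v * v = 1 := (by decide +kernel : ∀ v : A5, InV v → v * v = 1) v hv
    have hvi : v⁻¹ = v := inv_eq_of_mul_self hvv
    have hRR : aR * aR = 1 := orders.2.2.2.1
    refine main (v * d * v⁻¹) (aR * a * aR) i (by rw [conj_pow, hd3, mul_one, mul_inv_cancel])
      (fun h => hd1 (conj_eq_one_iff.1 h)) ?_ h ?_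
    · have hc := inV_commute aR v (.inr (.inl rfl)) hv
      rw [hvi]
      calc aR * (v * d * v) * aR = (aR * v) * d * (v * aR) := by simp only [mul_assoc]
        _ = (v * aR) * d * (aR * v) := by rw [hc]
        _ = v * (aR * d * aR) * v := by simp only [mul_assoc]
        _ = _ := by rw [hdR, mul_inv_rev, mul_inv_rev, hvi, mul_assoc]
    · have hwi : w * F.ι aR * w⁻¹ = (F.ι v)⁻¹ := by rw [hw, ← map_inv, hvi]
      have h1 : w * F.ι (aR * a * aR) * w⁻¹ = F.ι v * (w * F.ι a * w⁻¹) * (F.ι v)⁻¹ := by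
        rw [← hwi, ← hw, map_mul, map_mul]
        group
      rw [h1, map_mul, map_mul, map_inv]
      exact hcomm.map (MulAut.conj (F.ι v))

section Card

variable [Finite G] [IsSimpleGroup G] (hG : Nat.card G = 175560)

include hG

/-- The configuration: good or bad relations with the frame they come from. -/
theorem exists_config : ∃ (t' : G) (F' : Frame t') (w : G),
    (Good (F'.ι aX) (F'.ι aC) t' w ∨ Bad (F'.ι aX) (F'.ι aC) t' w) ∧ w ^ 7 = 1 ∧ w ≠ 1 ∧
      w ∈ normalizer (F'.four : Set G) := by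
  obtain ⟨t', r, g, σ, ht', hr, hrt, hrt', hgo, hgr, hgi, hσo, hσg, hσt, hrσ⟩ := F.exists_five hG
  obtain ⟨F0⟩ := F.exists_frame_invol hG ht'
  obtain ⟨a0, ha0⟩ := F0.cover r hrt'
  have hr2 : r * r = 1 := by rw [← pow_two, ← hr, pow_orderOf_eq_one]
  have hr1 : r ≠ 1 := fun h => by rw [h, orderOf_one] at hr; omega
  have ha02 : a0 * a0 = 1 := by
    apply F0.inj
    rcases ha0 with rfl | rfl
    · rw [map_mul, hr2, map_one]
    · rw [map_one, ← hr2, ← pow_two (t' * F0.ι a0), F0.tmul_pow, pow_two, F0.tt, one_mul, pow_two]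
  have ha01 : a0 ≠ 1 := by
    rintro rfl
    rcases ha0 with h | h
    · exact hr1 (h.trans (map_one _))
    · exact hrt (h.trans (by rw [map_one, mul_one]))
  obtain ⟨p, hp⟩ := exists_tw_inv a0 ha02 ha01
  set F1 := F0.reindex p with hF1
  have hR1 : F1.ι aR = F0.ι a0 := by rw [← hp, hF1, reindex_apply]
  have hr4 : r ∈ F1.four := by
    rcases ha0 with h | h <;> rw [h, ← hR1]
    · exact F1.ι_mem_four (.inr (.inl rfl))
    · exact F1.tι_mem_four (.inr (.inl rfl))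
  obtain ⟨a, w, hw⟩ := F1.exists_w hG hr4 hr1
  obtain ⟨ha3, ha1, haR, haS, hwN, hw7, hcw, hwt⟩ := hw.resolve_right hrt
  obtain ⟨-, q, hqR, hqC⟩ := norm_V_three a ha3 ha1 haR haS
  set F2 := F1.reindex q with hF2
  have hR2 : F2.ι aR = F1.ι aR := by
    conv_lhs => rw [← hqR]
    rw [hF2, reindex_apply]
  have hC2 : F2.ι aC = F1.ι a := by rw [← hqC, hF2, reindex_apply]
  have hfour : F2.four = F1.four := by simp only [Frame.four, hR2]
  rw [← hfour] at hwN
  rw [← hC2] at hcw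
  have hrR : r = F2.ι aR ∨ r = t' * F2.ι aR := by rw [hR2, hR1]; exact ha0
  clear_value F2
  clear hR2 hC2 hfour hr4 hw hF2 haR haS hqR hqC ha3 ha1
  have hw1 : w ≠ 1 := by
    rintro rfl
    rw [one_mul, inv_one, mul_one] at hwt
    exact hrt hwt.symm
  have hwo : orderOf w = 7 := by
    have : Fact (Nat.Prime 7) := ⟨by decide⟩
    exact orderOf_eq_prime hw7 hw1
  have hTne : ∀ i, 0 < i → i < 7 → ¬ Commute (w ^ i) t' := by
    intro i h0 h7
    refine F2.not_commute ?_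
    have : orderOf (w ^ i) = 7 := by
      rw [orderOf_pow' w h0.ne', hwo]
      have : Nat.Coprime 7 i := (Nat.prime_seven.coprime_iff_not_dvd).2
        (Nat.not_dvd_of_pos_of_lt h0 h7)
      rw [Nat.Coprime] at this
      rw [this]
    rw [this]
    decide
  refine ⟨t', F2, w, ?_, hw7, hw1, hwN⟩
  set c := F2.ι aC with hc
  have htc : Commute t' c := F2.comm aC
  have hdbl := Tw_double hcw htc
  have hstep := Tw_step t' w
  have hT1 : Tw t' w 1 = r := by rw [Tw, pow_one]; exact hwt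
  have hT2 : Tw t' w 2 = c * r * c⁻¹ := by rw [← hT1, hdbl]
  have hT4 : Tw t' w 4 = c * Tw t' w 2 * c⁻¹ := (hdbl 2).symm
  have hT6 : Tw t' w 6 = c * Tw t' w 3 * c⁻¹ := (hdbl 3).symm
  have hT5 : Tw t' w 5 = c * Tw t' w 6 * c⁻¹ := by rw [hdbl, ← Tw_mod hw7 5]
  have hne13 : Tw t' w 3 ≠ Tw t' w 1 := fun h =>
    hTne 2 (by omega) (by omega) (commute_of_conj_pow_eq (by omega : 1 ≤ 3) h.symm)
  have hne23 : Tw t' w 3 ≠ Tw t' w 2 := fun h =>
    hTne 1 (by omega) (by omega) (commute_of_conj_pow_eq (by omega : 2 ≤ 3) h.symm)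
  obtain ⟨X, hX, hT3⟩ := F2.mem_four.1
    ((mem_normalizer_iff.1 (pow_mem hwN 3) t').1 F2.t_mem_four)
  change Tw t' w 3 = F2.ι X ∨ Tw t' w 3 = t' * F2.ι X at hT3
  have hcι : ∀ u : A5, c * F2.ι u * c⁻¹ = F2.ι (aC * u * aC⁻¹) := fun u => by
    rw [hc, map_mul, map_mul, map_inv]
  have hctι : ∀ u : A5, c * (t' * F2.ι u) * c⁻¹ = t' * F2.ι (aC * u * aC⁻¹) := fun u => by
    rw [← hcι, ← mul_assoc c, ← htc.eq]
    simp only [mul_assoc]
  have hpair : ∀ u v : A5, t' * F2.ι u * (t' * F2.ι v) = F2.ι (u * v) := fun u v => by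
    rw [← mul_assoc, mul_assoc t' (F2.ι u), (F2.commute_mem u).eq, ← mul_assoc, F2.tt, one_mul,
      map_mul]
  obtain ⟨hXX, hCC3, hXC5, hRR, -, -, -, -, -, -, hCR, hCS, -⟩ := orders
  -- `k` in the `A₅`
  have hgr' : Commute (w⁻¹ * g * w) t' := by
    have h := hgr.map (MulAut.conj w⁻¹).toMonoidHom
    simp only [MulEquiv.coe_toMonoidHom, MulAut.conj_apply, inv_inv] at h
    rwa [show w⁻¹ * r * w = t' by rw [← hwt]; group] at h
  have hk5 : (w⁻¹ * g * w) ^ 5 = 1 := by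
    have := conj_pow (a := w⁻¹) (b := g) (i := 5)
    rw [inv_inv] at this
    rw [this, show g ^ 5 = 1 from hgo ▸ pow_orderOf_eq_one g, mul_one, inv_mul_cancel]
  obtain ⟨ak, hak, hak5⟩ := F2.eq_of_odd_pow hgr' (n := 5) (by decide) hk5
  have hak1 : ak ≠ 1 := by
    rintro rfl
    have : g = w * (w⁻¹ * g * w) * w⁻¹ := by group
    rw [hak, map_one, mul_one, mul_inv_cancel] at this
    rw [this, orderOf_one] at hgo
    omega
  have hgk : g = w * F2.ι ak * w⁻¹ := by rw [← hak]; group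
  have hkinv : Tw t' w 6 * F2.ι ak * Tw t' w 6 = (F2.ι ak)⁻¹ := by
    have h6 : w ^ 6 = w⁻¹ := eq_inv_of_mul_eq_one_left (by rw [← pow_succ]; exact hw7)
    rw [Tw, h6, ← hak]
    calc w⁻¹ * t' * w⁻¹⁻¹ * (w⁻¹ * g * w) * (w⁻¹ * t' * w⁻¹⁻¹) = w⁻¹ * (t' * g * t') * w := by
          group
      _ = _ := by rw [hgi]; group
  obtain ⟨d, hd, hd3⟩ := F2.eq_of_odd_pow hσt (n := 3) (by decide)
    (hσo ▸ pow_orderOf_eq_one σ)
  have hd1 : d ≠ 1 := by
    rintro rfl
    rw [hd, map_one, orderOf_one] at hσo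
    omega
  have hdR : aR * d * aR = d⁻¹ := by
    apply F2.inj
    rw [map_mul, map_mul, map_inv, ← hd, ← hrσ]
    rcases hrR with h | h <;> rw [h]
    rw [hd, show t' * F2.ι aR * F2.ι d = t' * F2.ι (aR * d) by rw [map_mul, mul_assoc], hpair,
      map_mul, map_mul]
  have hcomm : Commute (F2.ι d) (w * F2.ι ak * w⁻¹) := by rw [← hd, ← hgk]; exact hσg
  rcases hrR with hr' | hr'
  · -- first action
    have e2 : Tw t' w 2 = F2.ι aS := by rw [hT2, hr', hcι, hCR]
    have e4 : Tw t' w 4 = F2.ι (aR * aS) := by rw [hT4, e2, hcι, hCS]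
    have e12 : Tw t' w 2 * Tw t' w 3 = Tw t' w 5 := by
      rw [← hstep 4, e4, map_mul, ← hstep 1, ← hstep 2, hT1, e2, hr']
      group
    have hX' : X = aR := by
      refine stepA X hX (F2.inj ?_)
      rw [show aC * aC * X * aC⁻¹ * aC⁻¹ = aC * (aC * X * aC⁻¹) * aC⁻¹ by simp only [mul_assoc]]
      rcases hT3 with h | h
      · rw [map_mul, ← e2, ← h, e12, hT5, hT6, h, hcι, hcι]
      · rw [e2, h, hT5, hT6, h, hctι, hctι, ← mul_assoc, (F2.commute_mem aS).eq,
          mul_assoc] at e12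
        rw [map_mul]
        exact mul_left_cancel e12
    have e3 : Tw t' w 3 = t' * F2.ι aR := by
      rcases hT3 with h | h
      · exact absurd (by rw [h, hX', hT1, hr']) hne13
      · rw [h, hX']
    have e6 : Tw t' w 6 = t' * F2.ι aS := by rw [hT6, e3, hctι, hCR]
    have hA : CaseA (F2.ι aX) (F2.ι aC) t' w := by
      refine ⟨⟨?_, ?_, ?_, F2.tt, F2.comm _, htc, hw7, hcw⟩, ?_, ?_, ?_⟩
      · rw [← map_mul, hXX, map_one]
      · rw [← map_pow, hCC3, map_one]
      · rw [← map_mul, ← map_pow, hXC5, map_one]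
      · rw [← map_wR F2.ι, hwt, hr']; rfl
      · rw [← map_wR F2.ι, ← map_wS F2.ι]
        show w * F2.ι aR * w⁻¹ = F2.ι aS
        rw [← hr', ← hT1, hstep, e2]
      · rw [← map_wR F2.ι, ← map_wS F2.ι]
        show w * F2.ι aS * w⁻¹ = t' * F2.ι aR
        rw [← e2, hstep, e3]
    have hinvk : aS * ak * aS = ak⁻¹ := by
      apply F2.inj
      rw [map_inv, ← hkinv, e6, show t' * F2.ι aS * F2.ι ak = t' * F2.ι (aS * ak) by
        rw [map_mul, mul_assoc], hpair]
    rcases F2.finish (v := aS) (.inr (.inr (.inl rfl))) (by rw [← hr', ← hT1, hstep, e2])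
      (five_A ak hak5 hak1 hinvk) hd3 hd1 hdR hcomm with h | h
    · left
      refine ⟨hA, ?_⟩
      rw [← map_wA F2.ι, ← map_wKA F2.ι]
      exact h
    · right; left
      refine ⟨hA, ?_⟩
      rw [← map_wB F2.ι, ← map_wKA F2.ι]
      exact h
  · -- second action
    have e2 : Tw t' w 2 = t' * F2.ι aS := by rw [hT2, hr', hctι, hCR]
    have e4 : Tw t' w 4 = t' * F2.ι (aR * aS) := by rw [hT4, e2, hctι, hCS]
    have eR : w * F2.ι aR * w⁻¹ = F2.ι (aR * aS) := by
      have h : w * F2.ι aR * w⁻¹ = (w * t' * w⁻¹) * (w * r * w⁻¹) := by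
        rw [hr', show (w * t' * w⁻¹) * (w * (t' * F2.ι aR) * w⁻¹) =
          w * (t' * t') * F2.ι aR * w⁻¹ by group, F2.tt, mul_one]
      rw [h, hwt, ← hT1, hstep, hT1, hr', e2, hpair]
    have e12 : Tw t' w 2 * Tw t' w 3 = Tw t' w 1 * Tw t' w 5 := by
      have h1 : Tw t' w 2 * Tw t' w 3 = w * (Tw t' w 1 * Tw t' w 2) * w⁻¹ := by
        rw [show w * (Tw t' w 1 * Tw t' w 2) * w⁻¹ =
          (w * Tw t' w 1 * w⁻¹) * (w * Tw t' w 2 * w⁻¹) by group, hstep, hstep]
      have h2 : Tw t' w 1 * Tw t' w 5 = w * (t' * Tw t' w 4) * w⁻¹ := by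
        rw [← hstep 4, Tw, pow_one]; group
      rw [h1, h2, hT1, hr', e2, hpair, e4, ← mul_assoc t', F2.tt, one_mul]
    have hX' : X = aS := by
      refine stepB X hX (F2.inj ?_)
      rw [show aC * aC * X * aC⁻¹ * aC⁻¹ = aC * (aC * X * aC⁻¹) * aC⁻¹ by simp only [mul_assoc]]
      rcases hT3 with h | h
      · rw [e2, h, hT1, hr', hT5, hT6, h, hcι, hcι, mul_assoc, mul_assoc, ← map_mul,
          ← map_mul] at e12
        exact mul_left_cancel e12
      · rw [e2, h, hT1, hr', hT5, hT6, h, hctι, hctι, hpair, hpair] at e12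
        exact e12
    have e3 : Tw t' w 3 = F2.ι aS := by
      rcases hT3 with h | h
      · rw [h, hX']
      · exact absurd (by rw [h, hX', e2]) hne23
    have e6 : Tw t' w 6 = F2.ι (aR * aS) := by rw [hT6, e3, hcι, hCS]
    have hB : CaseB (F2.ι aX) (F2.ι aC) t' w := by
      refine ⟨⟨?_, ?_, ?_, F2.tt, F2.comm _, htc, hw7, hcw⟩, ?_, ?_, ?_⟩
      · rw [← map_mul, hXX, map_one]
      · rw [← map_pow, hCC3, map_one]
      · rw [← map_mul, ← map_pow, hXC5, map_one]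
      · rw [← map_wR F2.ι, hwt, hr']; rfl
      · rw [← map_wR F2.ι, ← map_wS F2.ι]
        show w * (t' * F2.ι aR) * w⁻¹ = t' * F2.ι aS
        rw [← hr', ← hT1, hstep, e2]
      · rw [← map_wS F2.ι]
        show w * (t' * F2.ι aS) * w⁻¹ = t' * (t' * F2.ι aS)
        rw [← e2, hstep, e3, e2, ← mul_assoc, F2.tt, one_mul]
    have hinvk : aR * aS * ak * (aR * aS) = ak⁻¹ := by
      apply F2.inj
      rw [map_inv, ← hkinv, e6, map_mul, map_mul]
    rcases F2.finish (v := aR * aS) (.inr (.inr (.inr rfl))) eR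
      (five_B ak hak5 hak1 hinvk) hd3 hd1 hdR hcomm with h | h
    · right; right; left
      refine ⟨hB, ?_⟩
      rw [← map_wA F2.ι, ← map_wKB F2.ι]
      exact h
    · right; right; right
      refine ⟨hB, ?_⟩
      rw [← map_wB F2.ι, ← map_wKB F2.ι]
      exact h

end Card

end Frame

end Cfsg.Agent.J1Unique
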