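import Cfsg.Agent.J1Unique.Rels

/-!
# Janko's first group: computations in `A₅`
-/

set_option autoImplicit false

namespace Cfsg.Agent.J1Unique

open Equiv

/-- The alternating group on five points. -/
abbrev A5 : Type := ↥(alternatingGroup (Fin 5))

/-- The group `Z₂ × A₅`. -/
abbrev ZA : Type := Multiplicative (ZMod 2) × A5

/-- `(12)(45)` -/
def aX : A5 := ⟨swap 0 1 * swap 3 4, Perm.mem_alternatingGroup.2 (by decide)⟩

/-- `(234)` -/
def aC : A5 := ⟨swap 1 2 * swap 2 3, Perm.mem_alternatingGroup.2 (by decide)⟩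

/-- `(12)(34)` -/
def aR : A5 := wR aX aC

/-- `(13)(24)` -/
def aS : A5 := wS aX aC

/-- `(345)` -/
def aA : A5 := wA aX aC

/-- `(125)` -/
def aB : A5 := wB aX aC

/-- element of order 5 inverted by `aS` -/
def aKA : A5 := wKA aX aC

/-- element of order 5 inverted by `aR * aS` -/
def aKB : A5 := wKB aX aC

/-- Conjugation of `A₅` by a permutation of the five points. -/
def tw (p : Perm (Fin 5)) : A5 ≃* A5 := MulAut.conjNormal p

theorem aR_perm : (aR : Perm (Fin 5)) = swap 0 1 * swap 2 3 := by decide +kernel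

theorem aS_perm : (aS : Perm (Fin 5)) = swap 0 2 * swap 1 3 := by decide +kernel

set_option maxRecDepth 10000

theorem za_center : ∀ z : ZA, (∀ a : A5, Commute z.2 a) → z * z = 1 → z ≠ 1 →
    z = (Multiplicative.ofAdd 1, 1) := by
  unfold Commute SemiconjBy
  decide +kernel

theorem orders : aX * aX = 1 ∧ aC ^ 3 = 1 ∧ (aX * aC) ^ 5 = 1 ∧ aR * aR = 1 ∧ aR ≠ 1 ∧ aS ≠ 1 ∧
    aR ≠ aS ∧ aC ≠ 1 ∧ aX * aC ≠ 1 ∧ aX ≠ 1 ∧ aC * aR * aC⁻¹ = aS ∧
    aC * aS * aC⁻¹ = aR * aS ∧ aS * aR = aR * aS ∧ aA ^ 3 = 1 ∧ aB ^ 3 = 1 ∧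
    aKA ^ 5 = 1 ∧ aKB ^ 5 = 1 := by
  decide +kernel

/-- An involution of `A₅` goes to `(12)(34)` under some permutation. -/
theorem exists_tw_inv : ∀ a : A5, a * a = 1 → a ≠ 1 → ∃ p : Perm (Fin 5), tw p a = aR := by
  decide +kernel

/-- Membership in the four group. -/
def InV (a : A5) : Prop := a = 1 ∨ a = aR ∨ a = aS ∨ a = aR * aS

instance (a : A5) : Decidable (InV a) := by unfold InV; infer_instance

theorem inV_of_commute : ∀ a : A5, a * aR = aR * a → InV a := by decide +kernel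

theorem inV_conj_aR : ∀ a : A5, InV a → a ≠ 1 → ∃ b : A5, b * aR * b⁻¹ = a := by decide +kernel

theorem inV_conj_aC : ∀ a : A5, InV a → a ≠ 1 →
    a = aR ∨ aC⁻¹ * a * aC = aR ∨ aC * a * aC⁻¹ = aR := by decide +kernel

theorem inV_commute : ∀ a b : A5, InV a → InV b → a * b = b * a := by decide +kernel

theorem inV_aC : ∀ a : A5, InV a → InV (aC * a * aC⁻¹) := by decide +kernel

theorem norm_V_five : ∀ a : A5, a ^ 5 = 1 → InV (a * aR * a⁻¹) → a = 1 := by decide +kernel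

theorem norm_V_three : ∀ a : A5, a ^ 3 = 1 → a ≠ 1 → InV (a * aR * a⁻¹) →
    InV (a * aS * a⁻¹) → ¬ InV a ∧ ∃ p : Perm (Fin 5), tw p aR = aR ∧ tw p a = aC := by
  decide +kernel

theorem inverting : ∀ a : A5, a ^ 5 = 1 → ∃ b : A5, b * b = 1 ∧ b ≠ 1 ∧ b * a * b = a⁻¹ := by
  decide +kernel

theorem commute_five : ∀ a : A5, a ^ 5 = 1 → a ≠ 1 → ∀ b : A5, b * a = a * b →
    b = 1 ∨ b = a ∨ b = a ^ 2 ∨ b = a ^ 3 ∨ b = a ^ 4 := by
  decide +kernel

theorem five_A : ∀ a : A5, a ^ 5 = 1 → a ≠ 1 → aS * a * aS = a⁻¹ →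
    ∃ i < 5, a ^ i = aKA ∨ (aR * a * aR) ^ i = aKA := by
  decide +kernel

theorem five_B : ∀ a : A5, a ^ 5 = 1 → a ≠ 1 → (aR * aS) * a * (aR * aS) = a⁻¹ →
    ∃ i < 5, a ^ i = aKB ∨ (aR * a * aR) ^ i = aKB := by
  decide +kernel

theorem three_inverted : ∀ d : A5, d ^ 3 = 1 → d ≠ 1 → aR * d * aR = d⁻¹ →
    ∃ i < 3, (d ^ i = aA ∨ d ^ i = aB) := by
  decide +kernel

theorem stepA : ∀ a : A5, InV a → aS * a = aC * aC * a * aC⁻¹ * aC⁻¹ → a = aR := by decide +kernel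

theorem stepB : ∀ a : A5, InV a → aS * a = aR * (aC * aC * a * aC⁻¹ * aC⁻¹) → a = aS := by
  decide +kernel

end Cfsg.Agent.J1Unique
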