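import Cfsg.Agent.J1Unique.Seven
import Cfsg.Agent.RecogA.TwiceOdd

/-!
# Janko's first group: the centraliser of an element of order 5
-/

set_option autoImplicit false

namespace Cfsg.Agent.J1Unique

open Subgroup

variable {G : Type*} [Group G]

theorem normalizer_mem_iff_pow {g n : G} (hn : n ∈ normalizer (zpowers g : Set G)) [Finite G] :
    ∃ k : ℕ, n * g * n⁻¹ = g ^ k := by
  have := (mem_normalizer_iff.1 hn g).1 (mem_zpowers g)
  rw [← mem_powers_iff_mem_zpowers] at this
  obtain ⟨k, hk⟩ := this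
  exact ⟨k, hk.symm⟩

theorem mem_normalizer_zpowers_of_conj [Finite G] {g n : G} {k : ℤ} (h : n * g * n⁻¹ = g ^ k) :
    n ∈ normalizer (zpowers g : Set G) := by
  have hle : (zpowers g).map (MulAut.conj n).toMonoidHom ≤ zpowers g := by
    rintro _ ⟨u, ⟨i, rfl⟩, rfl⟩
    refine ⟨k * i, ?_⟩
    simp only [MulEquiv.coe_toMonoidHom, MulAut.conj_apply, zpow_mul, ← h, conj_zpow]
  have he := eq_of_le_of_card_ge hle (by
    rw [card_map_of_injective (MulAut.conj n).injective])
  refine mem_normalizer_iff.2 fun u => ⟨fun hu => he ▸ ⟨u, hu, rfl⟩, fun hu => ?_⟩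
  rw [← he] at hu
  obtain ⟨v, hv, hvu⟩ := hu
  exact (MulAut.conj n).injective hvu ▸ hv

namespace Frame

variable {t : G} (F : Frame t) [Finite G] [IsSimpleGroup G] (hG : Nat.card G = 175560)

include F hG

theorem not_four_dvd_orderOf (u : G) : ¬ 4 ∣ orderOf u := by
  have : Fact (Nat.Prime 2) := ⟨Nat.prime_two⟩
  intro h
  have ho : orderOf (u ^ (orderOf u / 4)) = 4 := orderOf_pow_orderOf_div (orderOf_pos u).ne' h
  set y := u ^ (orderOf u / 4)
  have hp : IsPGroup 2 (zpowers y) := IsPGroup.of_card (n := 2) (by rw [Nat.card_zpowers, ho]; rfl)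
  obtain ⟨P, hP⟩ := hp.exists_le_sylow
  obtain ⟨g, hg⟩ := MulAction.exists_smul_eq G (F.sylow hG) P
  have h1 : y ∈ (P : Subgroup G) := hP (mem_zpowers y)
  rw [← hg, Sylow.coe_subgroup_smul, Subgroup.mem_pointwise_smul_iff_inv_smul_mem] at h1
  simp only [MulAut.smul_def, MulAut.inv_apply, MulAut.conj_symm_apply] at h1
  have h2 := F.four_sq (show g⁻¹ * y * g ∈ F.four from h1)
  have h3 : y ^ 2 = 1 := by
    rw [pow_two]
    calc y * y = g * ((g⁻¹ * y * g) * (g⁻¹ * y * g)) * g⁻¹ := by group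
      _ = 1 := by rw [h2, mul_one, mul_inv_cancel]
  have := orderOf_dvd_of_pow_eq_one h3
  rw [ho] at this
  exact absurd this (by decide)

/-- An involution does not centralise an element of prime order at least 7. -/
theorem odd_card_centralizer {y : G} {q : ℕ} (hy : orderOf y = q) (hq : ¬ q ∣ 120) :
    ¬ 2 ∣ Nat.card (centralizer (zpowers y : Set G)) := by
  have : Fact (Nat.Prime 2) := ⟨Nat.prime_two⟩
  intro h
  obtain ⟨⟨u, hu⟩, huo⟩ := exists_prime_orderOf_dvd_card' 2 h
  rw [← Subgroup.orderOf_coe] at huo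
  obtain ⟨F'⟩ := F.exists_frame_invol hG huo
  exact F'.not_commute (hy ▸ hq) (mem_centralizer_iff.1 hu y (mem_zpowers y))

theorem not_four_dvd_normalizer {y : G} {q : ℕ} (hy : orderOf y = q) (hq : q.Prime)
    (hq1 : ¬ q ∣ 120) (hq4 : ¬ 4 ∣ q - 1) :
    ¬ 4 ∣ Nat.card (normalizer (zpowers y : Set G)) := by
  intro h
  have hC := F.odd_card_centralizer hG hy hq1
  have hd := SmallGroups.relIndex_centralizer_dvd (zpowers y)
  have : Fact q.Prime := ⟨hq⟩
  have hcy : Nat.card (zpowers y) = q := by rw [Nat.card_zpowers, hy]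
  rw [IsCyclic.card_mulAut, hcy, Nat.totient_prime hq] at hd
  have hle : centralizer (zpowers y : Set G) ≤ normalizer (zpowers y : Set G) :=
    centralizer_le_normalizer _
  have hmul := relIndex_mul_relIndex ⊥ _ _ bot_le hle
  rw [relIndex_bot_left, relIndex_bot_left] at hmul
  rw [← hmul] at h
  have h4 : Nat.Coprime 4 (Nat.card (centralizer (zpowers y : Set G))) := by
    rw [show (4 : ℕ) = 2 ^ 2 by rfl]
    exact Nat.Coprime.pow_left _ (Nat.prime_two.coprime_iff_not_dvd.2 hC)
  exact hq4 ((h4.dvd_of_dvd_mul_left h).trans hd)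

/-- The configuration in the normaliser of a Sylow 5-subgroup. -/
theorem exists_five : ∃ t' r g σ : G, orderOf t' = 2 ∧ orderOf r = 2 ∧ r ≠ t' ∧ Commute r t' ∧
    orderOf g = 5 ∧ Commute g r ∧ t' * g * t' = g⁻¹ ∧ orderOf σ = 3 ∧ Commute σ g ∧ Commute σ t' ∧
    r * σ * r = σ⁻¹ := by
  classical
  have : Fact (Nat.Prime 2) := ⟨Nat.prime_two⟩
  have : Fact (Nat.Prime 3) := ⟨by decide⟩
  have : Fact (Nat.Prime 5) := ⟨by decide⟩
  set g5 := F.ι (aX * aC) with hg
  have hgo : orderOf g5 = 5 := by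
    rw [hg, orderOf_injective F.ι F.inj,
      orderOf_eq_prime orders.2.2.1 orders.2.2.2.2.2.2.2.2.1]
  obtain ⟨ab, hab, hab1, habi⟩ := inverting (aX * aC) orders.2.2.1
  set b := F.ι ab with hb
  have hbb : b * b = 1 := by rw [hb, ← map_mul, hab, map_one]
  have hb1 : b ≠ 1 := fun h => hab1 (F.inj (h.trans (map_one _).symm))
  have hbg : b * g5 * b = g5⁻¹ := by rw [hb, hg, ← map_mul, ← map_mul, habi, map_inv]
  have hbi : b⁻¹ = b := inv_eq_of_mul_self hbb
  have hbt : Commute b t := F.commute_mem ab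
  have hgt : Commute g5 t := F.commute_mem _
  set K := centralizer (zpowers g5 : Set G) with hK
  set N := normalizer (zpowers g5 : Set G) with hN
  have hKmem : ∀ u, u ∈ K ↔ Commute u g5 := fun u => by
    rw [hK, mem_centralizer_iff]
    exact ⟨fun h => (h g5 (mem_zpowers g5)).symm, fun h v ⟨i, hi⟩ => hi ▸ (h.zpow_right i).eq.symm⟩
  have hKN : K ≤ N := centralizer_le_normalizer _
  have htK : t ∈ K := (hKmem t).2 hgt.symm
  have hgK : g5 ∈ K := (hKmem g5).2 (Commute.refl _)
  have hbN : b ∈ N := mem_normalizer_zpowers_of_conj (k := -1)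
    (by rw [hbi, hbg, zpow_neg, zpow_one])
  have hg2 : g5⁻¹ ≠ g5 := fun h => by
    have h2 : g5 ^ 2 = 1 := by rw [pow_two]; nth_rw 1 [← h]; rw [inv_mul_cancel]
    have := orderOf_dvd_of_pow_eq_one h2
    rw [hgo] at this
    exact absurd this (by decide)
  have hbK : b ∉ K := fun h => hg2 (by
    rw [← hbg, ((hKmem b).1 h).eq, mul_assoc, hbb, mul_one])
  have hNK : ∀ n ∈ N, n ∈ K ∨ b * n ∈ K := by
    intro n hn
    obtain ⟨k, hk⟩ := normalizer_mem_iff_pow hn
    have hit := conj_iterate hk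
    have hno := pow_orderOf_eq_one n
    have h1 := hit (orderOf n)
    rw [hno, one_mul, inv_one, mul_one] at h1
    have h1' : g5 ^ 1 = g5 ^ (k ^ orderOf n) := by rw [pow_one]; exact h1
    rw [pow_eq_pow_iff_modEq, hgo, Nat.ModEq, Nat.pow_mod] at h1'
    have hk5 := Nat.mod_lt k (show 5 > 0 by decide)
    have h4 := F.not_four_dvd_orderOf hG n
    have hper : ∀ j, j < 5 → ∀ e : ℕ, j ^ e % 5 = j ^ (e % 4) % 5 ∨ j = 0 := by
      intro j hj e
      rcases Nat.eq_zero_or_pos j with h | h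
      · exact .inr h
      · left
        conv_lhs => rw [← Nat.div_add_mod e 4, pow_add, Nat.mul_mod, pow_mul, Nat.pow_mod]
        have : j ^ 4 % 5 = 1 := by interval_cases j <;> rfl
        rw [this, one_pow]
        simp [Nat.mul_mod]
    have hcases : k % 5 = 1 ∨ k % 5 = 4 := by
      have he := Nat.mod_lt (orderOf n) (show 4 > 0 by decide)
      rcases hper _ hk5 (orderOf n) with h | h
      · rw [h] at h1'
        have h40 : orderOf n % 4 ≠ 0 := fun h => h4 (Nat.dvd_of_mod_eq_zero h)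
        exact (by decide : ∀ j < 5, ∀ e < 4, e ≠ 0 → 1 % 5 = j ^ e % 5 → j = 1 ∨ j = 4)
          _ hk5 _ he h40 h1'
      · rw [h, zero_pow (orderOf_pos n).ne'] at h1'
        simp at h1'
    rcases hcases with h | h
    · left
      rw [hKmem]
      have : g5 ^ k = g5 := by rw [← pow_mod_orderOf, hgo, h, pow_one]
      rw [this] at hk
      exact mul_inv_eq_iff_eq_mul.1 hk
    · right
      rw [hKmem]
      have : g5 ^ k = g5⁻¹ := by
        rw [← pow_mod_orderOf, hgo, h, eq_inv_iff_mul_eq_one, ← pow_succ,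
          show (4 : ℕ) + 1 = orderOf g5 by omega, pow_orderOf_eq_one]
      rw [this] at hk
      refine mul_inv_eq_iff_eq_mul.1 ?_
      rw [mul_inv_rev, hbi, show b * n * g5 * (n⁻¹ * b) = b * (n * g5 * n⁻¹) * b by group, hk,
        ← hbg, ← mul_assoc, ← mul_assoc, hbb, one_mul, mul_assoc, hbb, mul_one]
  have hcardN : Nat.card N = 2 * Nat.card K := by
    let f : Bool × K → N := fun q => ⟨cond q.1 b 1 * q.2.1, mul_mem (by
      cases q.1
      · exact one_mem N
      · exact hbN) (hKN q.2.2)⟩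
    have hf : Function.Bijective f := by
      constructor
      · rintro ⟨i, u, hu⟩ ⟨j, v, hv⟩ h
        have h : cond i b 1 * u = cond j b 1 * v := congrArg Subtype.val h
        cases i <;> cases j <;> simp only [cond_false, cond_true, one_mul] at h
        · subst h; rfl
        · exact absurd (show b ∈ K by
            rw [show b = u * v⁻¹ by rw [h, mul_inv_cancel_right]]; exact mul_mem hu (inv_mem hv)) hbK
        · exact absurd (show b ∈ K by
            rw [show b = v * u⁻¹ by rw [← h, mul_inv_cancel_right]]; exact mul_mem hv (inv_mem hu)) hbK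
        · obtain rfl := mul_left_cancel h; rfl
      · rintro ⟨n, hn⟩
        rcases hNK n hn with h | h
        · exact ⟨(false, ⟨n, h⟩), Subtype.ext (one_mul n)⟩
        · exact ⟨(true, ⟨b * n, h⟩), Subtype.ext (by
            show b * (b * n) = n
            rw [← mul_assoc, hbb, one_mul])⟩
    rw [← Nat.card_eq_of_bijective f hf, Nat.card_prod, Nat.card_eq_fintype_card, Fintype.card_bool]
  -- the part of `K` in `C(t)`
  have hKt : ∀ u ∈ K, Commute u t → ∃ i : Fin 5, u = g5 ^ (i : ℕ) ∨ u = t * g5 ^ (i : ℕ) := by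
    intro u hu hut
    obtain ⟨a, ha⟩ := F.cover u hut
    have hca : Commute (F.ι a) g5 := by
      rcases ha with rfl | rfl
      · exact (hKmem _).1 hu
      · have := (hgt.symm.inv_left).mul_left ((hKmem _).1 hu)
        rwa [inv_mul_cancel_left] at this
    have hca' : a * (aX * aC) = aX * aC * a := F.inj (by rw [map_mul F.ι a (aX * aC), map_mul F.ι (aX * aC) a]; exact hca.eq)
    obtain ⟨i, hi⟩ : ∃ i : Fin 5, a = (aX * aC) ^ (i : ℕ) := by
      rcases commute_five _ orders.2.2.1 orders.2.2.2.2.2.2.2.2.1 a hca' with h | h | h | h | h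
      exacts [⟨0, by simp [h]⟩, ⟨1, by simp [h]⟩, ⟨2, h⟩, ⟨3, h⟩, ⟨4, h⟩]
    exact ⟨i, by rw [hg, ← map_pow, ← hi]; exact ha⟩
  have hKt10 : ∀ Q : Subgroup G, Q ≤ K → (∀ u ∈ Q, Commute u t) → Nat.card Q ∣ 10 := by
    intro Q hQK hQt
    let L : Subgroup G := K ⊓ centralizer ({t} : Set G)
    have hL : Nat.card L = 10 := by
      let f : Bool × Fin 5 → L := fun q => ⟨cond q.1 t 1 * g5 ^ (q.2 : ℕ), by
        refine ⟨mul_mem ?_ (pow_mem hgK _), mul_mem ?_ (pow_mem
          (mem_centralizer_singleton_iff.2 hgt.eq) _)⟩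
        · cases q.1
          · exact one_mem K
          · exact htK
        · cases q.1
          · exact one_mem _
          · exact mem_centralizer_singleton_iff.2 rfl⟩
      have hinj : ∀ i j : Fin 5, g5 ^ (i : ℕ) = g5 ^ (j : ℕ) → i = j := fun i j h =>
        Fin.ext (pow_injOn_Iio_orderOf (by rw [hgo]; exact i.2) (by rw [hgo]; exact j.2) h)
      have hne : ∀ i j : Fin 5, t * g5 ^ (i : ℕ) ≠ g5 ^ (j : ℕ) := fun i j h => by
        rw [hg, ← map_pow, ← map_pow] at h
        exact F.tmul_ne _ _ h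
      have hf : Function.Bijective f := by
        constructor
        · rintro ⟨i, x⟩ ⟨j, y⟩ h
          have h : cond i t 1 * g5 ^ (x : ℕ) = cond j t 1 * g5 ^ (y : ℕ) := congrArg Subtype.val h
          cases i <;> cases j <;> simp only [cond_false, cond_true, one_mul] at h
          · rw [hinj _ _ h]
          · exact absurd h.symm (hne _ _)
          · exact absurd h (hne _ _)
          · rw [hinj _ _ (mul_left_cancel h)]
        · rintro ⟨u, hu, hut⟩
          obtain ⟨i, hi | hi⟩ := hKt u hu (mem_centralizer_singleton_iff.1 hut)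
          · exact ⟨(false, i), Subtype.ext (by simp [f, hi])⟩
          · exact ⟨(true, i), Subtype.ext (by simp [f, hi])⟩
      rw [← Nat.card_eq_of_bijective f hf, Nat.card_prod, Nat.card_eq_fintype_card,
        Fintype.card_bool, Nat.card_fin]
    exact hL ▸ card_dvd_of_le (le_inf hQK fun u hu => mem_centralizer_singleton_iff.2 (hQt u hu).eq)
  have hK2 : 2 ∣ Nat.card K := by
    have := orderOf_dvd_natCard (⟨t, htK⟩ : K)
    rwa [← Subgroup.orderOf_coe, F.orderOf_t] at this
  have hK5 : 5 ∣ Nat.card K := by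
    have := orderOf_dvd_natCard (⟨g5, hgK⟩ : K)
    rwa [← Subgroup.orderOf_coe, hgo] at this
  have hK4 : ¬ 4 ∣ Nat.card K := by
    intro h
    obtain ⟨Q, hQ, hle⟩ := Sylow.exists_subgroup_card_pow_prime_le (G := K) (p := 2) (n := 1)
      (m := 2) h (zpowers ⟨t, htK⟩)
      (by rw [Nat.card_zpowers, ← Subgroup.orderOf_coe, F.orderOf_t]; rfl) (by norm_num)
    have hQc : IsMulCommutative ↥Q := IsPGroup.isMulCommutative_of_card_eq_prime_sq hQ
    have htQ : (⟨t, htK⟩ : K) ∈ Q := hle (mem_zpowers _)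
    have := hKt10 (Q.map K.subtype) (map_subtype_le Q) (by
      rintro _ ⟨u, hu, rfl⟩
      exact congrArg (fun v : ↥Q => ((v : K) : G))
        (hQc.is_comm.comm (⟨u, hu⟩ : Q) ⟨⟨t, htK⟩, htQ⟩))
    rw [card_map_of_injective K.subtype_injective, hQ] at this
    exact absurd this (by decide)
  obtain ⟨M, hM⟩ : ∃ M, Nat.card K = 10 * M := (Nat.Coprime.mul_dvd_of_dvd_of_dvd (by decide) hK2 hK5)
  have hM2 : ¬ 2 ∣ M := fun ⟨i, hi⟩ => hK4 ⟨5 * i, by omega⟩
  have hdvdN : Nat.card N ∣ 175560 := hG ▸ card_subgroup_dvd_card N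
  rw [hcardN, hM, ← mul_assoc] at hdvdN
  have hM8778 : M ∣ 8778 := Nat.dvd_of_mul_dvd_mul_left (show 0 < 2 * 10 by norm_num)
    (by rwa [show 2 * 10 * 8778 = 175560 by rfl])
  -- the part of odd order
  have hodd : Odd (5 * M) := (show Odd 5 by decide).mul (Nat.odd_iff.2 (Nat.two_dvd_ne_zero.1 hM2))
  obtain ⟨O, hO, hOmem⟩ := RecogA.exists_subgroup_of_card_two_mul_odd (X := K) hodd
    (by rw [hM]; ring)
  set H := O.map K.subtype with hH
  have hHmem : ∀ u, u ∈ H ↔ u ∈ K ∧ u ^ (5 * M) = 1 := by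
    intro u
    constructor
    · rintro ⟨v, hv, rfl⟩
      exact ⟨v.2, congrArg Subtype.val ((hOmem v).1 hv)⟩
    · rintro ⟨hu, h⟩
      exact ⟨⟨u, hu⟩, (hOmem _).2 (Subtype.ext h), rfl⟩
  have hHK : H ≤ K := map_subtype_le O
  have hHcard : Nat.card H = 5 * M := by rw [hH, card_map_of_injective K.subtype_injective, hO]
  have hKconj : ∀ n ∈ N, ∀ u ∈ K, n * u * n⁻¹ ∈ K := by
    intro n hn u hu
    rw [hKmem] at hu ⊢
    obtain ⟨k, hk⟩ := normalizer_mem_iff_pow (inv_mem hn)
    rw [inv_inv] at hk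
    have h1 : Commute (n * u * n⁻¹) (n * g5 ^ k * n⁻¹) := (hu.pow_right k).map (MulAut.conj n)
    rwa [← hk, show n * (n⁻¹ * g5 * n) * n⁻¹ = g5 by group] at h1
  have hHconj : ∀ n ∈ N, ∀ u ∈ H, n * u * n⁻¹ ∈ H := by
    intro n hn u hu
    obtain ⟨h1, h2⟩ := (hHmem u).1 hu
    exact (hHmem _).2 ⟨hKconj n hn u h1, by rw [conj_pow, h2, mul_one, mul_inv_cancel]⟩
  set HN := H.subgroupOf N with hHN
  have : HN.Normal := ⟨fun u hu n => hHconj n n.2 u hu⟩
  have hHNcard : Nat.card HN = 5 * M := by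
    rw [← hHcard]
    exact Nat.card_congr (subgroupOfEquivOfLe (hHK.trans hKN)).toEquiv
  have hM0 : 0 < M := Nat.pos_of_ne_zero fun h => hM2 (h ▸ dvd_zero 2)
  have hindex : HN.index = 4 := by
    have := HN.card_mul_index
    rw [hHNcard, hcardN, hM] at this
    exact Nat.eq_of_mul_eq_mul_left (show 0 < 5 * M by omega) (this.trans (by ring))
  have hno : ∀ q : ℕ, q.Prime → q ∣ M → ¬ q ∣ 120 → ¬ 4 ∣ q - 1 → False := by
    intro q hq hqM hq120 hq4
    have : Fact q.Prime := ⟨hq⟩
    obtain ⟨Q⟩ : Nonempty (Sylow q ↥HN) := inferInstance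
    have hcards : Nat.card (Q : Subgroup ↥HN) = q := by
      rw [Q.card_eq_multiplicity, hHNcard]
      have h1 : (5 * M).factorization q = 1 := by
        have hdvd : 5 * M ∣ 5 * 8778 := Nat.mul_dvd_mul_left 5 hM8778
        have h2 : (5 * M).factorization q ≤ (5 * 8778).factorization q :=
          (Nat.factorization_le_iff_dvd (by omega) (by norm_num)).2 hdvd q
        have h3 : 1 ≤ (5 * M).factorization q :=
          hq.factorization_pos_of_dvd (by omega) (hqM.trans (dvd_mul_left M 5))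
        have h4 : (5 * 8778).factorization q ≤ 1 := by
          refine Squarefree.natFactorization_le_one q ?_
          decide +kernel
        omega
      rw [h1, pow_one]
    have hsup := Sylow.normalizer_sup_eq_top Q
    set NQ := normalizer (((Q : Subgroup ↥HN).map HN.subtype : Subgroup ↥N) : Set ↥N)
    have h4 : 4 ∣ Nat.card NQ := by
      have : HN.relIndex NQ = 4 := by
        rw [← relIndex_sup_right, hsup, relIndex_top_right, hindex]
      exact this ▸ relIndex_dvd_card _ _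
    obtain ⟨⟨y, hy⟩, hyo⟩ := exists_prime_orderOf_dvd_card' q (G := ↥(Q : Subgroup ↥HN))
      (dvd_of_eq hcards.symm)
    rw [← Subgroup.orderOf_coe, ← Subgroup.orderOf_coe, ← Subgroup.orderOf_coe] at hyo
    set y' : G := ((y : ↥N) : G)
    have hzp : ((Q : Subgroup ↥HN).map HN.subtype).map N.subtype = zpowers y' := by
      refine (eq_of_le_of_card_ge (zpowers_le.2 (mem_map_of_mem _ (mem_map_of_mem _ hy))) ?_).symm
      rw [card_map_of_injective N.subtype_injective, card_map_of_injective HN.subtype_injective,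
        hcards, Nat.card_zpowers]
      exact hyo.ge
    have hle : NQ.map N.subtype ≤ normalizer (zpowers y' : Set G) := by
      rw [← hzp]
      exact le_normalizer_map N.subtype
    exact F.not_four_dvd_normalizer hG hyo hq hq120 hq4
      ((card_map_of_injective N.subtype_injective ▸ h4).trans (card_dvd_of_le hle))
  have hM3 : M = 1 ∨ M = 3 := by
    have : ∀ d ∈ Nat.divisors 8778, ¬ 2 ∣ d → ¬ 7 ∣ d → ¬ 11 ∣ d → ¬ 19 ∣ d → d = 1 ∨ d = 3 := by
      decide +kernel
    exact this M (Nat.mem_divisors.2 ⟨hM8778, by norm_num⟩) hM2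
      (fun h => hno 7 (by decide) h (by decide) (by decide))
      (fun h => hno 11 (by decide) h (by decide) (by decide))
      (fun h => hno 19 (by decide) h (by decide) (by decide))
  have hM3 : M = 3 := by
    rcases hM3 with h | h
    · exfalso
      obtain ⟨P, hP⟩ := (IsPGroup.of_card (p := 5) (n := 1)
        (show Nat.card (zpowers g5) = 5 ^ 1 by rw [Nat.card_zpowers, hgo]; rfl)).exists_le_sylow
      have hPc : Nat.card (P : Subgroup G) = 5 := SmallGroups.card_sylow_subgroup (a := 1)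
        (m := 35112) (by rw [hG]; rfl) (by decide) P
      have hPeq : zpowers g5 = (P : Subgroup G) :=
        eq_of_le_of_card_ge hP (by rw [hPc, Nat.card_zpowers, hgo])
      have hmul := SmallGroups.card_sylow_mul_card_normalizer P
      rw [← hPeq, hG, ← hN, hcardN, hM, h] at hmul
      have hmod := card_sylow_modEq_one 5 G
      rw [Nat.ModEq] at hmod
      omega
    · exact h
  subst hM3
  -- the element of order 3
  obtain ⟨⟨σ, hσH⟩, hσo⟩ := exists_prime_orderOf_dvd_card' 3 (G := H) (hHcard ▸ dvd_mul_left 3 5)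
  rw [← Subgroup.orderOf_coe] at hσo
  have hσK : σ ∈ K := hHK hσH
  have hσg : Commute σ g5 := (hKmem σ).1 hσK
  have hgs : orderOf (g5 * σ) = 15 := by
    rw [hσg.symm.orderOf_mul_eq_mul_orderOf_of_coprime (by rw [hgo, hσo]; decide), hgo, hσo]
  have hσ3 : σ ^ 3 = 1 := hσo ▸ pow_orderOf_eq_one σ
  have hgH : g5 ∈ H := (hHmem g5).2 ⟨hgK, by
    rw [pow_mul, show g5 ^ 5 = 1 from hgo ▸ pow_orderOf_eq_one g5, one_pow]⟩
  have hHz : H = zpowers (g5 * σ) :=
    (eq_of_le_of_card_ge (zpowers_le.2 (mul_mem hgH hσH)) (by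
      rw [hHcard, Nat.card_zpowers, hgs])).symm
  have huniq : ∀ u ∈ H, u ^ 3 = 1 → u = 1 ∨ u = σ ∨ u = σ⁻¹ := by
    intro u hu hu3
    rw [hHz, ← mem_powers_iff_mem_zpowers] at hu
    obtain ⟨i, rfl⟩ := hu
    have hu3' : (g5 * σ) ^ (i * 3) = 1 := by rw [pow_mul]; exact hu3
    have hdiv : 15 ∣ i * 3 := hgs ▸ orderOf_dvd_of_pow_eq_one hu3'
    obtain ⟨j, rfl⟩ : 5 ∣ i := by omega
    show (g5 * σ) ^ (5 * j) = 1 ∨ (g5 * σ) ^ (5 * j) = σ ∨ (g5 * σ) ^ (5 * j) = σ⁻¹
    rw [hσg.symm.mul_pow, pow_mul g5, show g5 ^ 5 = 1 from hgo ▸ pow_orderOf_eq_one g5, one_pow,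
      one_mul, ← pow_mod_orderOf σ, hσo]
    have := Nat.mod_lt (5 * j) (show 3 > 0 by decide)
    interval_cases h : 5 * j % 3
    · exact .inl (pow_zero σ)
    · exact .inr (.inl (pow_one σ))
    · exact .inr (.inr (eq_inv_of_mul_eq_one_left (by rw [← pow_succ]; exact hσ3)))
  have hinv : ∀ u ∈ N, u * u = 1 → Commute σ u ∨ u * σ * u = σ⁻¹ := by
    intro u hu huu
    have hui := inv_eq_of_mul_self huu
    have h1 := hHconj u hu σ hσH
    have h2 : (u * σ * u⁻¹) ^ 3 = 1 := by rw [conj_pow, hσ3, mul_one, mul_inv_cancel]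
    rcases huniq _ h1 h2 with h | h | h
    · rw [conj_eq_one_iff] at h
      have h' : orderOf σ = 3 := hσo
      clear_value g5
      exact absurd (by rw [← h', orderOf_eq_one_iff.2 h] : (3 : ℕ) = 1) (by decide)
    · exact .inl (mul_inv_eq_iff_eq_mul.1 h).symm
    · rw [hui] at h; exact .inr h
  have hσt : t * σ * t = σ⁻¹ := by
    refine (hinv t (hKN htK) F.tt).resolve_left fun h => ?_
    have := hKt10 (zpowers σ) (zpowers_le.2 hσK) (fun u ⟨i, hi⟩ => hi ▸ h.zpow_left i)
    rw [Nat.card_zpowers, hσo] at this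
    exact absurd this (by decide)
  rcases hinv b hbN hbb with h | h
  · exact ⟨b, t, g5, σ, orderOf_eq_prime (by rw [pow_two]; exact hbb) hb1, F.orderOf_t,
      fun e => F.ne ab e.symm, hbt.symm, hgo, hgt, hbg, hσo, hσg, h, hσt⟩
  · refine ⟨b * t, t, g5, σ, orderOf_eq_prime ?_ ?_, F.orderOf_t, ?_, ?_, hgo, hgt, ?_, hσo, hσg,
      ?_, hσt⟩
    · rw [pow_two, mul_assoc, ← mul_assoc t, ← hbt.eq, mul_assoc b t t, F.tt, mul_one, hbb]
    · exact fun e => F.ne ab ((eq_inv_of_mul_eq_one_left e).trans F.t_inv)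
    · exact fun e => hb1 (mul_right_cancel (e.symm.trans (one_mul t).symm))
    · exact hbt.symm.mul_right (Commute.refl t)
    · rw [show b * t * g5 * (b * t) = b * (t * g5) * (b * t) by group, ← hgt.eq,
        show b * (g5 * t) * (b * t) = b * g5 * (t * b) * t by group, ← hbt.eq,
        show b * g5 * (b * t) * t = b * g5 * b * (t * t) by group, hbg, F.tt, mul_one]
    · have h' : b * t * σ * (b * t)⁻¹ = σ := by
        rw [show b * t * σ * (b * t)⁻¹ = b * (t * σ * t⁻¹) * b⁻¹ by group, F.t_inv, hσt, hbi,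
          show b * σ⁻¹ * b = (b * σ * b)⁻¹ by rw [mul_inv_rev, mul_inv_rev, hbi, mul_assoc], h,
          inv_inv]
      exact (mul_inv_eq_iff_eq_mul.1 h').symm

end Frame

end Cfsg.Agent.J1Unique
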