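import Cfsg.Agent.J1Unique.Coord
import Cfsg.Agent.Invol.IndexTwo
import Cfsg.Agent.SmallGroups.Basic

/-!
# Janko's first group: coordinates on an involution centraliser
-/

set_option autoImplicit false

namespace Cfsg.Agent.J1Unique

open Subgroup

variable {G : Type*} [Group G]

/-- Coordinates `C(t) = ⟨t⟩ × ι(A₅)`. -/
structure Frame (t : G) where
  ι : A5 →* G
  inj : Function.Injective ι
  comm : ∀ a, Commute t (ι a)
  tt : t * t = 1
  ne : ∀ a, ι a ≠ t
  cover : ∀ g, Commute g t → ∃ a, g = ι a ∨ g = t * ι a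

theorem exists_frame {t : G} (ht : orderOf t = 2)
    (e : ↥(centralizer ({t} : Set G)) ≃* ZA) : Nonempty (Frame t) := by
  have htC : t ∈ centralizer ({t} : Set G) := mem_centralizer_singleton_iff.2 rfl
  have ht2 : t * t = 1 := by rw [← pow_two, ← ht, pow_orderOf_eq_one]
  have ht1 : t ≠ 1 := fun h => by rw [h, orderOf_one] at ht; exact absurd ht (by decide)
  let T : ↥(centralizer ({t} : Set G)) := ⟨t, htC⟩
  have hT : e T = (Multiplicative.ofAdd 1, 1) := by
    refine za_center _ (fun a => ?_) ?_ ?_
    · have h : e T * e (e.symm (1, a)) = e (e.symm (1, a)) * e T := by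
        rw [← map_mul, ← map_mul]
        exact congrArg e (Subtype.ext (mem_centralizer_singleton_iff.1 (e.symm (1, a)).2).symm)
      rw [e.apply_symm_apply] at h
      exact congrArg Prod.snd h
    · rw [← map_mul, show T * T = 1 from Subtype.ext ht2, map_one]
    · rw [Ne, EmbeddingLike.map_eq_one_iff]
      exact fun h => ht1 (congrArg Subtype.val h)
  let ι : A5 →* G :=
    (centralizer ({t} : Set G)).subtype.comp (e.symm.toMonoidHom.comp (MonoidHom.inr _ _))
  have hι : ∀ a, ι a = ((e.symm (1, a) : ↥(centralizer ({t} : Set G))) : G) := fun a => rfl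
  refine ⟨⟨ι, ?_, fun a => ?_, ht2, fun a h => ?_, fun g hg => ?_⟩⟩
  · intro a b h
    have := e.symm.injective (Subtype.ext h)
    exact congrArg Prod.snd this
  · exact (mem_centralizer_singleton_iff.1 (e.symm (1, a)).2).symm
  · have h1 : e.symm (1, a) = T := Subtype.ext h
    have := congrArg Prod.fst (e.symm.injective (h1.trans (e.symm_apply_apply T).symm))
    rw [hT] at this
    exact absurd this (show ((1 : Multiplicative (ZMod 2))) ≠ Multiplicative.ofAdd 1 by decide)
  · let g' : ↥(centralizer ({t} : Set G)) := ⟨g, mem_centralizer_singleton_iff.2 hg.eq⟩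
    refine ⟨(e g').2, ?_⟩
    have hb : ∀ b : Multiplicative (ZMod 2), b = 1 ∨ b = Multiplicative.ofAdd 1 := by decide
    rcases hb (e g').1 with h | h
    · left
      rw [hι]
      show (g' : G) = _
      rw [show ((1 : Multiplicative (ZMod 2)), (e g').2) = e g' by rw [← h], e.symm_apply_apply]
    · right
      rw [hι]
      show (g' : G) = ((T * e.symm (1, (e g').2) : ↥(centralizer ({t} : Set G))) : G)
      congr 1
      apply e.injective
      rw [map_mul, hT, e.apply_symm_apply, Prod.mk_mul_mk, mul_one, one_mul, ← h]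

namespace Frame

variable {t : G} (F : Frame t)

include F

/-- New coordinates on the same centraliser. -/
def reindex (p : Equiv.Perm (Fin 5)) : Frame t where
  ι := F.ι.comp (tw p).symm.toMonoidHom
  inj := F.inj.comp (tw p).symm.injective
  comm a := F.comm _
  tt := F.tt
  ne a := F.ne _
  cover g hg := by
    obtain ⟨a, h⟩ := F.cover g hg
    refine ⟨tw p a, ?_⟩
    simpa using h

theorem reindex_apply (p : Equiv.Perm (Fin 5)) (a : A5) : (F.reindex p).ι (tw p a) = F.ι a := by
  simp [reindex]

/-- Transport by conjugation. -/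
def conj (g : G) : Frame (g * t * g⁻¹) where
  ι := (MulAut.conj g).toMonoidHom.comp F.ι
  inj := (MulAut.conj g).injective.comp F.inj
  comm a := by
    have := (F.comm a).map (MulAut.conj g).toMonoidHom
    simpa using this
  tt := by
    have := congrArg (MulAut.conj g) F.tt
    simpa [map_mul] using this
  ne a h := F.ne a ((MulAut.conj g).injective (by simpa using h))
  cover x hx := by
    have h1 := hx.map (MulAut.conj g⁻¹).toMonoidHom
    obtain ⟨a, ha⟩ := F.cover (g⁻¹ * x * g) (by simpa [mul_assoc] using h1)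
    refine ⟨a, ?_⟩
    rcases ha with ha | ha
    · left
      simp only [MonoidHom.coe_comp, MulEquiv.coe_toMonoidHom, Function.comp_apply,
        MulAut.conj_apply, ← ha]
      group
    · right
      have : F.ι a = t⁻¹ * (g⁻¹ * x * g) := by rw [ha, inv_mul_cancel_left]
      simp only [MonoidHom.coe_comp, MulEquiv.coe_toMonoidHom, Function.comp_apply,
        MulAut.conj_apply, this]
      group

theorem t_inv : t⁻¹ = t := inv_eq_of_mul_self F.tt

theorem t_ne_one : t ≠ 1 := fun h => F.ne 1 (by rw [map_one, h])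

theorem orderOf_t : orderOf t = 2 :=
  orderOf_eq_prime (by rw [pow_two]; exact F.tt) F.t_ne_one

theorem commute_mem (a : A5) : Commute (F.ι a) t := (F.comm a).symm

theorem tmul_ne (a : A5) (b : A5) : t * F.ι a ≠ F.ι b := fun h =>
  F.ne (b * a⁻¹) (by rw [map_mul, map_inv, ← h, mul_inv_cancel_right])

theorem tmul_pow (a : A5) (n : ℕ) : (t * F.ι a) ^ n = t ^ n * F.ι (a ^ n) := by
  rw [(F.comm a).mul_pow, map_pow]

/-- Elements of odd order of the centraliser lie in the `A₅`. -/
theorem eq_of_odd_pow {g : G} (hg : Commute g t) {n : ℕ} (hn : Odd n) (h : g ^ n = 1) :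
    ∃ a, g = F.ι a ∧ a ^ n = 1 := by
  obtain ⟨a, ha | ha⟩ := F.cover g hg
  · exact ⟨a, ha, F.inj (by rw [map_pow, ← ha, h, map_one])⟩
  · obtain ⟨k, rfl⟩ := hn
    rw [ha, F.tmul_pow, pow_succ, pow_mul, pow_two, F.tt, one_pow, one_mul] at h
    exact absurd (h.trans (map_one F.ι).symm) (F.tmul_ne _ _)

/-- The centraliser as a set of pairs. -/
noncomputable def toPair : Bool × A5 → ↥(centralizer ({t} : Set G)) := fun q =>
  ⟨cond q.1 t 1 * F.ι q.2, mem_centralizer_singleton_iff.2 (by
    cases q.1
    · exact ((Commute.one_left t).mul_left (F.commute_mem q.2)).eq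
    · exact ((Commute.refl t).mul_left (F.commute_mem q.2)).eq)⟩

theorem toPair_bijective : Function.Bijective F.toPair := by
  constructor
  · rintro ⟨b, a⟩ ⟨b', a'⟩ h
    have h : cond b t 1 * F.ι a = cond b' t 1 * F.ι a' := congrArg Subtype.val h
    cases b <;> cases b' <;> simp only [cond_false, cond_true, one_mul] at h
    · rw [F.inj h]
    · exact absurd h.symm (F.tmul_ne _ _)
    · exact absurd h (F.tmul_ne _ _)
    · rw [F.inj (mul_left_cancel h)]
  · rintro ⟨g, hg⟩
    obtain ⟨a, ha | ha⟩ := F.cover g (mem_centralizer_singleton_iff.1 hg)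
    · exact ⟨(false, a), Subtype.ext (by simp [toPair, ha])⟩
    · exact ⟨(true, a), Subtype.ext (by simp [toPair, ha])⟩

theorem card_centralizer : Nat.card ↥(centralizer ({t} : Set G)) = 120 := by
  rw [← Nat.card_eq_of_bijective _ F.toPair_bijective, Nat.card_prod,
    nat_card_alternatingGroup, Nat.card_eq_fintype_card, Fintype.card_bool, Nat.card_fin]
  rfl

/-- An element whose order does not divide 120 does not centralise `t`. -/
theorem not_commute [Finite G] {g : G} (h : ¬ orderOf g ∣ 120) : ¬ Commute g t := fun hc =>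
  h (F.card_centralizer ▸ by
    have := orderOf_dvd_natCard (⟨g, mem_centralizer_singleton_iff.2 hc.eq⟩ :
      ↥(centralizer ({t} : Set G)))
    rwa [← Subgroup.orderOf_coe] at this)

end Frame

end Cfsg.Agent.J1Unique
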