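import Cfsg.Agent.J1Unique.Frame

/-!
# Janko's first group: the Sylow 2-subgroup and fusion of involutions
-/

set_option autoImplicit false

namespace Cfsg.Agent.J1Unique

open Subgroup
open scoped Pointwise

variable {G : Type*} [Group G]

namespace Frame

variable {t : G} (F : Frame t)

/-- The elementary abelian group `⟨t⟩ × V`. -/
def four : Subgroup G := centralizer ({t, F.ι aR} : Set G)

theorem mem_four {g : G} :
    g ∈ F.four ↔ ∃ a, InV a ∧ (g = F.ι a ∨ g = t * F.ι a) := by
  rw [four, mem_centralizer_iff]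
  simp only [Set.mem_insert_iff, Set.mem_singleton_iff, forall_eq_or_imp, forall_eq]
  constructor
  · rintro ⟨h1, h2⟩
    obtain ⟨a, ha⟩ := F.cover g h1.symm
    refine ⟨a, inV_of_commute a (F.inj ?_), ha⟩
    rw [map_mul, map_mul]
    rcases ha with rfl | rfl
    · exact h2.symm
    · rw [← mul_assoc, ← (F.comm aR).eq, mul_assoc t (F.ι a), mul_assoc t] at h2
      exact (mul_left_cancel h2).symm
  · rintro ⟨a, ha, h | h⟩ <;> subst h
    · refine ⟨(F.comm a).eq, ?_⟩
      rw [← map_mul, ← map_mul, inV_commute aR a (.inr (.inl rfl)) ha]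
    · refine ⟨((Commute.refl t).mul_right (F.comm a)).eq, ?_⟩
      have h : Commute (F.ι aR) (F.ι a) := by
        rw [Commute, SemiconjBy, ← map_mul, ← map_mul, inV_commute aR a (.inr (.inl rfl)) ha]
      exact ((F.comm aR).symm.mul_right h).eq

theorem t_mem_four : t ∈ F.four :=
  F.mem_four.2 ⟨1, .inl rfl, .inr (by rw [map_one, mul_one])⟩

theorem ι_mem_four {a : A5} (h : InV a) : F.ι a ∈ F.four := F.mem_four.2 ⟨a, h, .inl rfl⟩

theorem tι_mem_four {a : A5} (h : InV a) : t * F.ι a ∈ F.four := F.mem_four.2 ⟨a, h, .inr rfl⟩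

theorem four_commute {u v : G} (hu : u ∈ F.four) (hv : v ∈ F.four) : Commute u v := by
  obtain ⟨a, ha, ha'⟩ := F.mem_four.1 hu
  obtain ⟨b, hb, hb'⟩ := F.mem_four.1 hv
  have h : Commute (F.ι a) (F.ι b) := by
    rw [Commute, SemiconjBy, ← map_mul, ← map_mul, inV_commute a b ha hb]
  rcases ha' with rfl | rfl <;> rcases hb' with rfl | rfl
  · exact h
  · exact (F.commute_mem a).mul_right h
  · exact (F.comm b).mul_left h
  · exact ((Commute.refl t).mul_right (F.comm b)).mul_left ((F.commute_mem a).mul_right h)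

theorem four_sq {u : G} (hu : u ∈ F.four) : u * u = 1 := by
  obtain ⟨a, ha, ha'⟩ := F.mem_four.1 hu
  have h : a * a = 1 := (by decide +kernel : ∀ a : A5, InV a → a * a = 1) a ha
  rcases ha' with rfl | rfl
  · rw [← map_mul, h, map_one]
  · rw [← pow_two, F.tmul_pow, pow_two, F.tt, one_mul, pow_two, h, map_one]

theorem card_four : Nat.card ↥F.four = 8 := by
  let f : Bool × {a : A5 // InV a} → ↥F.four := fun q =>
    ⟨cond q.1 t 1 * F.ι q.2.1, by
      cases q.1
      · simpa using F.ι_mem_four q.2.2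
      · exact F.tι_mem_four q.2.2⟩
  have hf : Function.Bijective f := by
    constructor
    · rintro ⟨b, a⟩ ⟨b', a'⟩ h
      have h : cond b t 1 * F.ι a.1 = cond b' t 1 * F.ι a'.1 := congrArg Subtype.val h
      cases b <;> cases b' <;> simp only [cond_false, cond_true, one_mul] at h
      · rw [Subtype.ext (F.inj h)]
      · exact absurd h.symm (F.tmul_ne _ _)
      · exact absurd h (F.tmul_ne _ _)
      · rw [Subtype.ext (F.inj (mul_left_cancel h))]
    · rintro ⟨g, hg⟩
      obtain ⟨a, ha, h | h⟩ := F.mem_four.1 hg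
      · exact ⟨(false, ⟨a, ha⟩), Subtype.ext (by simp [f, h])⟩
      · exact ⟨(true, ⟨a, ha⟩), Subtype.ext (by simp [f, h])⟩
  rw [← Nat.card_eq_of_bijective f hf, Nat.card_prod, Nat.card_eq_fintype_card,
    Nat.card_eq_fintype_card, Fintype.card_bool]
  rw [show Fintype.card {a : A5 // InV a} = 4 by decide +kernel]

theorem aC_fix_t : F.ι aC * t * (F.ι aC)⁻¹ = t := by
  rw [← (F.comm aC).eq, mul_inv_cancel_right]

theorem aC_mem_normalizer [Finite G] : F.ι aC ∈ normalizer (F.four : Set G) := by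
  refine mem_normalizer_iff.2 fun u => ?_
  have hmap : ∀ v ∈ F.four, F.ι aC * v * (F.ι aC)⁻¹ ∈ F.four := by
    intro v hv
    obtain ⟨a, ha, h | h⟩ := F.mem_four.1 hv <;> subst h
    · rw [← map_inv, ← map_mul, ← map_mul]
      exact F.ι_mem_four (inV_aC a ha)
    · rw [← mul_assoc, ← (F.comm aC).eq, mul_assoc t (F.ι aC), mul_assoc t, ← map_inv,
        ← map_mul, ← map_mul]
      exact F.tι_mem_four (inV_aC a ha)
  refine ⟨hmap u, fun h => ?_⟩
  have h1 := hmap _ (hmap _ h)
  have e : F.ι aC * (F.ι aC * (F.ι aC * u * (F.ι aC)⁻¹) * (F.ι aC)⁻¹) * (F.ι aC)⁻¹ =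
      F.ι (aC ^ 3) * u * (F.ι (aC ^ 3))⁻¹ := by
    simp only [pow_succ, pow_zero, one_mul, map_mul, mul_inv_rev, mul_assoc]
  rw [e, orders.2.1, map_one, one_mul, inv_one, mul_one] at h1
  exact h1

section Card

variable [Finite G] (hG : Nat.card G = 175560)

include F hG

theorem card_four_eq : Nat.card ↥F.four = 2 ^ (Nat.card G).factorization 2 := by
  have : Fact (Nat.Prime 2) := ⟨Nat.prime_two⟩
  obtain ⟨P⟩ : Nonempty (Sylow 2 G) := inferInstance
  rw [← P.card_eq_multiplicity, SmallGroups.card_sylow_subgroup (a := 3) (m := 21945)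
    (by rw [hG]; rfl) (by decide) P, F.card_four]
  rfl

/-- `four` as a Sylow subgroup. -/
noncomputable def sylow : Sylow 2 G :=
  haveI : Fact (Nat.Prime 2) := ⟨Nat.prime_two⟩
  Sylow.ofCard F.four (F.card_four_eq hG)

theorem coe_sylow : (F.sylow hG : Subgroup G) = F.four := rfl

theorem conj_into_four {u : G} (hu : u * u = 1) : ∃ g, g⁻¹ * u * g ∈ F.four := by
  have : Fact (Nat.Prime 2) := ⟨Nat.prime_two⟩
  have hp : IsPGroup 2 (zpowers u) := by
    refine fun x => ⟨1, ?_⟩
    obtain ⟨k, hk⟩ := x.2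
    apply Subtype.ext
    show (x : G) ^ (2 ^ 1) = 1
    rw [← hk, pow_one, ← zpow_natCast, ← zpow_mul, mul_comm, zpow_mul, zpow_natCast, pow_two, hu,
      one_zpow]
  obtain ⟨P, hP⟩ := hp.exists_le_sylow
  obtain ⟨g, hg⟩ := MulAction.exists_smul_eq G (F.sylow hG) P
  refine ⟨g, ?_⟩
  have h : u ∈ (P : Subgroup G) := hP (mem_zpowers u)
  rw [← hg, Sylow.coe_subgroup_smul, Subgroup.mem_pointwise_smul_iff_inv_smul_mem] at h
  simp only [MulAut.smul_def, MulAut.inv_apply, MulAut.conj_symm_apply] at h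
  exact h

variable [IsSimpleGroup G]

theorem conj_t_aR : ∃ g, g * t * g⁻¹ = F.ι aR := by
  have hno : ∀ H : Subgroup G, H.index ≠ 2 := fun H hH => by
    rcases (normal_of_index_eq_two hH).eq_bot_or_eq_top with h | h
    · rw [h, index_bot, hG] at hH; omega
    · rw [h, index_top] at hH; omega
  let M : Subgroup G := (centralizer ({aR} : Set A5)).map F.ι
  have hM : 2 * Nat.card M = Nat.card (F.sylow hG : Subgroup G) := by
    rw [F.coe_sylow hG, F.card_four, Nat.card_congr (equivMapOfInjective _ F.ι F.inj).toEquiv.symm]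
    have : Nat.card ↥(centralizer ({aR} : Set A5)) = 4 := by
      rw [← SetLike.coe_sort_coe, show ((centralizer ({aR} : Set A5) : Set A5)) = {a | InV a} by
        ext a
        simp only [SetLike.mem_coe, mem_centralizer_singleton_iff, Set.mem_setOf_eq]
        exact ⟨inV_of_commute a, fun h => inV_commute a aR h (.inr (.inl rfl))⟩]
      rw [Nat.card_eq_fintype_card]
      decide +kernel
    rw [this]
  obtain ⟨g, a, ha, hga⟩ :=
    Invol.exists_conj_mem_of_no_index_two hno (F.sylow hG) M hM F.orderOf_t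
  have hInV : InV a := inV_of_commute a (mem_centralizer_singleton_iff.1 ha)
  have ha1 : a ≠ 1 := by
    rintro rfl
    rw [map_one] at hga
    have : t = g * (g⁻¹ * t * g) * g⁻¹ := by group
    rw [← hga, mul_one, mul_inv_cancel] at this
    exact F.t_ne_one this
  obtain ⟨b, hb⟩ := inV_conj_aR a hInV ha1
  refine ⟨(F.ι b)⁻¹ * g⁻¹, ?_⟩
  have : F.ι aR = (F.ι b)⁻¹ * F.ι a * F.ι b := by
    rw [← hb, map_mul, map_mul, map_inv]
    group
  rw [this, hga]
  group

theorem norm_t_aR : ∃ n ∈ normalizer (F.four : Set G), n * t * n⁻¹ = F.ι aR := by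
  have : Fact (Nat.Prime 2) := ⟨Nat.prime_two⟩
  obtain ⟨g, hg⟩ := F.conj_t_aR hG
  obtain ⟨n, hn, h⟩ := (F.sylow hG).conj_eq_normalizer_conj_of_mem_centralizer t g⁻¹
    (mem_centralizer_iff.2 fun u hu => (F.four_commute hu F.t_mem_four).eq) (by
      rw [inv_inv, hg]
      exact mem_centralizer_iff.2 fun u hu =>
        (F.four_commute hu (F.ι_mem_four (.inr (.inl rfl)))).eq)
  refine ⟨n⁻¹, inv_mem hn, ?_⟩
  rw [inv_inv, ← hg] at *
  exact h.symm

/-- The orbit of `t` under the normaliser of the Sylow subgroup is everything. -/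
theorem norm_orbit {s : G} (hs : s ∈ F.four) (hs1 : s ≠ 1) :
    ∃ n ∈ normalizer (F.four : Set G), n * t * n⁻¹ = s := by
  classical
  set N := normalizer (F.four : Set G) with hN
  letI : MulAction ↥N G := MulAction.compHom G
    ((MulAut.conj : G →* MulAut G).comp N.subtype)
  have hsmul : ∀ (n : ↥N) (u : G), n • u = (n : G) * u * (n : G)⁻¹ := fun n u => rfl
  set O := MulAction.orbit ↥N t with hO
  have hmem : ∀ {u}, u ∈ O ↔ ∃ n ∈ N, n * t * n⁻¹ = u := fun {u} =>
    ⟨fun ⟨n, hn⟩ => ⟨n, n.2, hn⟩, fun ⟨n, hn, h⟩ => ⟨⟨n, hn⟩, h⟩⟩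
  have hc : ∀ {u}, u ∈ O → F.ι aC * u * (F.ι aC)⁻¹ ∈ O := fun {u} hu => by
    obtain ⟨n, hn, rfl⟩ := hmem.1 hu
    exact hmem.2 ⟨F.ι aC * n, mul_mem F.aC_mem_normalizer hn, by group⟩
  have hci : ∀ {u}, u ∈ O → (F.ι aC)⁻¹ * u * F.ι aC ∈ O := fun {u} hu => by
    obtain ⟨n, hn, rfl⟩ := hmem.1 hu
    exact hmem.2 ⟨(F.ι aC)⁻¹ * n, mul_mem (inv_mem F.aC_mem_normalizer) hn, by group⟩
  have ht : t ∈ O := MulAction.mem_orbit_self t
  have hR : F.ι aR ∈ O := hmem.2 (F.norm_t_aR hG)
  have hV : ∀ a, InV a → a ≠ 1 → F.ι a ∈ O := by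
    intro a ha ha1
    rcases inV_conj_aC a ha ha1 with h | h | h
    · rw [h]; exact hR
    · have := hc hR
      rw [← h, map_mul, map_mul, map_inv] at this
      simpa [mul_assoc] using this
    · have := hci hR
      rw [← h, map_mul, map_mul, map_inv] at this
      simpa [mul_assoc] using this
  obtain ⟨a, ha, h | h⟩ := F.mem_four.1 hs <;> subst h
  · exact hmem.1 (hV a ha fun h => hs1 (by rw [h, map_one]))
  by_cases ha1 : a = 1
  · subst ha1
    rw [map_one, mul_one]
    exact ⟨1, one_mem _, by group⟩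
  refine hmem.1 (by_contra fun hcon => ?_)
  have hno : ∀ b, InV b → b ≠ 1 → t * F.ι b ∉ O := by
    intro b hb hb1 hbO
    have key : t * F.ι aR ∈ O ↔ t * F.ι b ∈ O := by
      have e1 : ∀ c, F.ι aC * (t * F.ι c) * (F.ι aC)⁻¹ = t * F.ι (aC * c * aC⁻¹) := fun c => by
        rw [map_mul, map_mul, map_inv, ← mul_assoc, ← (F.comm aC).eq]
        group
      have e2 : ∀ c, (F.ι aC)⁻¹ * (t * F.ι c) * F.ι aC = t * F.ι (aC⁻¹ * c * aC) := fun c => by
        rw [map_mul, map_mul, map_inv, ← mul_assoc, ← ((F.comm aC).inv_right).eq]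
        group
      rcases inV_conj_aC b hb hb1 with h | h | h
      · rw [h]
      · refine ⟨fun hh => ?_, fun hh => ?_⟩
        · have := hc hh
          rwa [e1, ← h, show aC * (aC⁻¹ * b * aC) * aC⁻¹ = b by group] at this
        · have := hci hh
          rwa [e2, h] at this
      · refine ⟨fun hh => ?_, fun hh => ?_⟩
        · have := hci hh
          rwa [e2, ← h, show aC⁻¹ * (aC * b * aC⁻¹) * aC = b by group] at this
        · have := hc hh
          rwa [e1, h] at this
    have key' : t * F.ι aR ∈ O := key.2 hbO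
    rcases inV_conj_aC a ha ha1 with h | h | h
    · exact hcon (h ▸ key')
    · apply hcon
      have := hc key'
      rwa [show F.ι aC * (t * F.ι aR) * (F.ι aC)⁻¹ = t * F.ι a by
        rw [← h, map_mul, map_mul, map_inv, ← mul_assoc, ← (F.comm aC).eq]; group] at this
    · apply hcon
      have := hci key'
      rwa [show (F.ι aC)⁻¹ * (t * F.ι aR) * F.ι aC = t * F.ι a by
        rw [← h, map_mul, map_mul, map_inv, ← mul_assoc, ← ((F.comm aC).inv_right).eq]
        group] at this
  have hcard : Nat.card O = 4 := by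
    let f : Option {b : A5 // InV b ∧ b ≠ 1} → ↥O := fun q =>
      q.elim ⟨t, ht⟩ fun b => ⟨F.ι b.1, hV b.1 b.2.1 b.2.2⟩
    have hf : Function.Bijective f := by
      constructor
      · rintro (_ | ⟨b, hb⟩) (_ | ⟨b', hb'⟩) h <;> have h := congrArg Subtype.val h
        · rfl
        · exact absurd (show t = F.ι b' from h).symm (F.ne b')
        · exact absurd (show F.ι b = t from h) (F.ne b)
        · exact congrArg some (Subtype.ext (F.inj h))
      · rintro ⟨u, hu⟩
        obtain ⟨n, hn, rfl⟩ := hmem.1 hu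
        have h4 := (mem_normalizer_iff.1 hn t).1 F.t_mem_four
        obtain ⟨b, hb, h | h⟩ := F.mem_four.1 h4
        · refine ⟨some ⟨b, hb, fun h1 => ?_⟩, Subtype.ext h.symm⟩
          rw [h1, map_one] at h
          exact F.t_ne_one (conj_eq_one_iff.1 h)
        · refine ⟨none, Subtype.ext ?_⟩
          show t = n * t * n⁻¹
          rw [h]
          by_contra hne
          exact hno b hb (fun h1 => hne (by rw [h1, map_one, mul_one])) (h ▸ hu)
    rw [← Nat.card_eq_of_bijective f hf, Finite.card_option, Nat.card_eq_fintype_card]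
    rw [show Fintype.card {b : A5 // InV b ∧ b ≠ 1} = 3 by decide +kernel]
  have h8 : 8 ∣ Nat.card (MulAction.stabilizer ↥N t) := by
    have hle : F.four ≤ (MulAction.stabilizer ↥N t).map N.subtype := fun u hu =>
      ⟨⟨u, le_normalizer hu⟩, by
        show u * t * u⁻¹ = t
        rw [(F.four_commute hu F.t_mem_four).eq, mul_inv_cancel_right], rfl⟩
    have := card_dvd_of_le hle
    rwa [F.card_four, card_map_of_injective N.subtype_injective] at this
  have h1 := Nat.card_congr (MulAction.orbitProdStabilizerEquivGroup ↥N t)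
  rw [Nat.card_prod, hcard] at h1
  have h2 : 4 * 8 ∣ Nat.card G :=
    (h1 ▸ Nat.mul_dvd_mul_left 4 h8).trans (card_subgroup_dvd_card N)
  rw [hG] at h2
  exact absurd h2 (by decide)

/-- All involutions are conjugate. -/
theorem exists_conj {u : G} (hu : orderOf u = 2) : ∃ g, g * t * g⁻¹ = u := by
  have hu2 : u * u = 1 := by rw [← pow_two, ← hu, pow_orderOf_eq_one]
  obtain ⟨g, hg⟩ := F.conj_into_four hG hu2
  obtain ⟨n, -, hn⟩ := F.norm_orbit hG hg (fun h => by
    have : u = g * (g⁻¹ * u * g) * g⁻¹ := by group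
    rw [h, mul_one, mul_inv_cancel] at this
    rw [this, orderOf_one] at hu
    exact absurd hu (by decide))
  refine ⟨g * n, ?_⟩
  rw [show g * n * t * (g * n)⁻¹ = g * (n * t * n⁻¹) * g⁻¹ by group, hn]
  group

/-- Every involution has the same kind of centraliser. -/
theorem exists_frame_invol {u : G} (hu : orderOf u = 2) : Nonempty (Frame u) := by
  obtain ⟨g, rfl⟩ := F.exists_conj hG hu
  exact ⟨F.conj g⟩

end Card

end Frame

end Cfsg.Agent.J1Unique
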