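import Cfsg.Agent.J1Unique.Main
import Cfsg.Agent.S2131
import Cfsg.Agent.SporB.J1Group
import Cfsg.Prelude.Def_SporadicB

/-!
# Janko's first group: recognition once the order is known
-/

set_option autoImplicit false
open Cfsg

namespace Cfsg.Agent.J1Unique

open Subgroup

/-- A simple group of order 175560 with an involution centraliser `2 × A₅` is `J₁`. -/
theorem isoJ1_of_card {G : Type*} [Group G] [Finite G] [IsSimpleGroup G]
    (hG : Nat.card G = 175560) {t : G} (ht : orderOf t = 2)
    (e : ↥(centralizer ({t} : Set G)) ≃* ZA) : Cfsg.Spor.IsoJ1 G := by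
  have := SporB.J1.isSimple_J1
  have hfin : Finite Cfsg.Spor.J1 :=
    Nat.finite_of_card_ne_zero (by rw [SporB.J1.card_J1]; norm_num)
  obtain ⟨u, hu, ⟨f⟩⟩ := S2131.result
  exact nonempty_mulEquiv hG SporB.J1.card_J1 ht hu e f

/-- An involution in an abelian Sylow 2-subgroup setting is 2-central. -/
theorem twoCentral_of_abelian {G : Type*} [Group G] [Finite G] (S : Sylow 2 G)
    (hS : IsMulCommutative (S : Subgroup G)) {t : G} (ht : orderOf t = 2) :
    Cfsg.IsTwoCentralInvolution t := by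
  have : Fact (Nat.Prime 2) := ⟨Nat.prime_two⟩
  have hp : IsPGroup 2 (zpowers t) := IsPGroup.of_card (n := 1) (by rw [Nat.card_zpowers, ht]; rfl)
  obtain ⟨P, hP⟩ := hp.exists_le_sylow
  refine ⟨ht, P, hP (mem_zpowers t), fun x hx => ?_⟩
  let e := Sylow.equiv P S
  have h : e (⟨x, hx⟩ * ⟨t, hP (mem_zpowers t)⟩) = e (⟨t, hP (mem_zpowers t)⟩ * ⟨x, hx⟩) := by
    rw [map_mul, map_mul]
    exact hS.is_comm.comm _ _
  exact congrArg Subtype.val (e.injective h)

end Cfsg.Agent.J1Unique
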