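import Cfsg.Agent.J1Unique.Config
import Mathlib.GroupTheory.SpecificGroups.Alternating.Simple

/-!
# Janko's first group: a simple group of order 175560 with an involution centraliser `2 × A₅`
is determined up to isomorphism
-/

set_option autoImplicit false

namespace Cfsg.Agent.J1Unique

open Subgroup

variable {G : Type*} [Group G]

namespace Frame

variable {t : G} (F : Frame t)

include F

theorem comap_eq_top {H : Subgroup G} (hx : F.ι aX ∈ H) (hc : F.ι aC ∈ H) : H.comap F.ι = ⊤ := by
  set M := H.comap F.ι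
  have hdvd : ∀ a ∈ M, orderOf a ∣ Nat.card M := fun a ha => by
    have := orderOf_dvd_natCard (⟨a, ha⟩ : M)
    rwa [← Subgroup.orderOf_coe] at this
  obtain ⟨hX, hC, hXC, -, -, -, -, hC1, hXC1, hX1, -⟩ := orders
  have : Fact (Nat.Prime 2) := ⟨Nat.prime_two⟩
  have : Fact (Nat.Prime 3) := ⟨by decide⟩
  have : Fact (Nat.Prime 5) := ⟨by decide⟩
  have h2 := hdvd aX hx
  have h3 := hdvd aC hc
  have h5 := hdvd (aX * aC) (mul_mem (show aX ∈ M from hx) (show aC ∈ M from hc))
  rw [orderOf_eq_prime (by rw [pow_two]; exact hX) hX1] at h2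
  rw [orderOf_eq_prime hC hC1] at h3
  rw [orderOf_eq_prime hXC hXC1] at h5
  have hA : Nat.card A5 = 60 := by rw [Nat.card_eq_fintype_card]; decide +kernel
  have hle := Nat.le_of_dvd (by rw [hA]; norm_num) (card_subgroup_dvd_card M)
  rw [hA] at hle
  have hmul := M.card_mul_index
  rw [hA] at hmul
  have h30 : 30 ∣ Nat.card M := by omega
  have hidx : M.index = 1 ∨ M.index = 2 := by
    obtain ⟨k, hk⟩ := h30
    rw [hk, mul_assoc] at hmul
    have h2' : k * M.index = 2 := by omega
    have : M.index ∣ 2 := h2' ▸ dvd_mul_left _ k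
    exact (Nat.dvd_prime Nat.prime_two).1 this
  rcases hidx with h | h
  · exact index_eq_one.1 h
  · have : IsSimpleGroup A5 := alternatingGroup.isSimpleGroup (by simp)
    rcases (normal_of_index_eq_two h).eq_bot_or_eq_top with h' | h'
    · rw [h', index_bot, hA] at h; omega
    · exact h'

theorem centralizer_le {H : Subgroup G} (hx : F.ι aX ∈ H) (hc : F.ι aC ∈ H) (ht : t ∈ H) :
    centralizer ({t} : Set G) ≤ H := by
  intro g hg
  have hM := F.comap_eq_top hx hc
  have hι : ∀ a, F.ι a ∈ H := fun a => show a ∈ H.comap F.ι by rw [hM]; exact mem_top a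
  obtain ⟨a, h | h⟩ := F.cover g (mem_centralizer_singleton_iff.1 hg) <;> rw [h]
  · exact hι a
  · exact mul_mem ht (hι a)

section Card

variable [Finite G] [IsSimpleGroup G] (hG : Nat.card G = 175560)

include hG

/-- A subgroup containing `C(t)` and a suitable element of order 7 is everything. -/
theorem eq_top {H : Subgroup G} (hle : centralizer ({t} : Set G) ≤ H) {w : G} (hwH : w ∈ H)
    (hw7 : w ^ 7 = 1) (hw1 : w ≠ 1) (hwN : w ∈ normalizer (F.four : Set G)) : H = ⊤ := by
  classical
  have : Fact (Nat.Prime 7) := ⟨by decide⟩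
  have : Fact (Nat.Prime 2) := ⟨Nat.prime_two⟩
  have hwo : orderOf w = 7 := orderOf_eq_prime hw7 hw1
  have h120 : 120 ∣ Nat.card H := F.card_centralizer ▸ card_dvd_of_le hle
  have h7 : 7 ∣ Nat.card H := by
    have := orderOf_dvd_natCard (⟨w, hwH⟩ : H)
    rwa [← Subgroup.orderOf_coe, hwo] at this
  obtain ⟨k, hk⟩ : 840 ∣ Nat.card H := Nat.Coprime.mul_dvd_of_dvd_of_dvd (m := 120) (n := 7)
    (by decide) h120 h7
  have hmul := H.card_mul_index
  rw [hk, hG, mul_assoc] at hmul
  have hki : k * H.index = 209 := by omega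
  have hmem : H.index ∈ Nat.divisors 209 :=
    Nat.mem_divisors.2 ⟨hki ▸ dvd_mul_left _ k, by norm_num⟩
  rw [show Nat.divisors 209 = {1, 11, 19, 209} by decide +kernel] at hmem
  simp only [Finset.mem_insert, Finset.mem_singleton] at hmem
  -- the seven conjugates of `t` under powers of `w`
  have hwt : ∀ i, 0 < i → i < 7 → ¬ Commute (w ^ i) t := by
    intro i h0 h7
    refine F.not_commute ?_
    have : orderOf (w ^ i) = 7 := by
      rw [orderOf_pow' w h0.ne', hwo]
      have : Nat.Coprime 7 i := (Nat.prime_seven.coprime_iff_not_dvd).2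
        (Nat.not_dvd_of_pos_of_lt h0 h7)
      rw [Nat.Coprime] at this
      rw [this]
    rw [this]
    decide
  let f : Fin 7 → {u : G // u ∈ F.four ∧ u ≠ 1} := fun i =>
    ⟨Tw t w i, (mem_normalizer_iff.1 (pow_mem hwN _) t).1 F.t_mem_four,
      fun h => F.t_ne_one (conj_eq_one_iff.1 h)⟩
  have hfinj : Function.Injective f := by
    intro i j hij
    have h : Tw t w i = Tw t w j := congrArg Subtype.val hij
    rcases lt_trichotomy (i : ℕ) (j : ℕ) with hlt | heq | hlt
    · exact absurd (commute_of_conj_pow_eq hlt.le h) (hwt _ (by omega) (by omega))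
    · exact Fin.ext heq
    · exact absurd (commute_of_conj_pow_eq hlt.le h.symm) (hwt _ (by omega) (by omega))
  have : Fintype {u : G // u ∈ F.four ∧ u ≠ 1} := Fintype.ofFinite _
  have h7four : Nat.card {u : G // u ∈ F.four ∧ u ≠ 1} = 7 := by
    have e : Nat.card {u : G // u ∈ F.four ∧ u ≠ 1} = ((F.four : Set G) \ {1}).ncard :=
      Nat.card_coe_set_eq _
    rw [e, Set.ncard_diff_singleton_of_mem (one_mem _), ← Nat.card_coe_set_eq,
      SetLike.coe_sort_coe, F.card_four]
  have hfbij : Function.Bijective f := (Fintype.bijective_iff_injective_and_card _).2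
    ⟨hfinj, by rw [Fintype.card_fin, ← Nat.card_eq_fintype_card, h7four]⟩
  have hfour_conj : ∀ u ∈ F.four, u ≠ 1 → ∃ h ∈ H, h * t * h⁻¹ = u := by
    intro u hu hu1
    obtain ⟨i, hi⟩ := hfbij.2 ⟨u, hu, hu1⟩
    exact ⟨w ^ (i : ℕ), pow_mem hwH _, congrArg Subtype.val hi⟩
  rcases hmem with h | h | h | h
  · exact index_eq_one.1 h
  rotate_left 2
  · -- index 209: `H` would normalise the Sylow subgroup
    exfalso
    rw [h] at hki
    have hH : Nat.card H = 840 := by omega
    letI : MulAction ↥H G := MulAction.compHom G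
      ((MulAut.conj : G →* MulAut G).comp H.subtype)
    set O := MulAction.orbit ↥H t
    have hst : 120 ∣ Nat.card (MulAction.stabilizer ↥H t) := by
      have hle' : centralizer ({t} : Set G) ≤ (MulAction.stabilizer ↥H t).map H.subtype :=
        fun g hg => ⟨⟨g, hle hg⟩, by
          show g * t * g⁻¹ = t
          rw [mem_centralizer_singleton_iff.1 hg, mul_inv_cancel_right], rfl⟩
      have := card_dvd_of_le hle'
      rwa [F.card_centralizer, card_map_of_injective H.subtype_injective] at this
    have h1 := Nat.card_congr (MulAction.orbitProdStabilizerEquivGroup ↥H t)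
    rw [Nat.card_prod, hH] at h1
    have hO : Nat.card O ≤ 7 := by
      obtain ⟨j, hj⟩ := hst
      rw [hj] at h1
      have : Nat.card O * j = 7 := by
        apply Nat.eq_of_mul_eq_mul_left (show 0 < 120 by norm_num)
        rw [← mul_assoc, mul_comm 120 (Nat.card O), mul_assoc]
        exact h1.trans (by norm_num)
      exact Nat.le_of_dvd (by norm_num) ⟨j, this.symm⟩
    let g : {u : G // u ∈ F.four ∧ u ≠ 1} → O := fun u =>
      ⟨u.1, by
        obtain ⟨h, hh, he⟩ := hfour_conj u.1 u.2.1 u.2.2
        exact ⟨⟨h, hh⟩, he⟩⟩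
    have hg : Function.Bijective g := by
      have hinj : Function.Injective g := fun a b hab => Subtype.ext (congrArg (fun v : O => v.1) hab)
      have : Fintype O := Fintype.ofFinite _
      refine (Fintype.bijective_iff_injective_and_card g).2 ⟨hinj, ?_⟩
      rw [← Nat.card_eq_fintype_card, ← Nat.card_eq_fintype_card, h7four]
      refine le_antisymm ?_ hO
      rw [← h7four]
      exact Nat.card_le_card_of_injective g hinj
    have hFH : ∀ u ∈ F.four, u ≠ 1 → ∀ v ∈ H, v * u * v⁻¹ ∈ F.four := by
      intro u hu hu1 v hv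
      obtain ⟨h, hh, he⟩ := hfour_conj u hu hu1
      have : v * u * v⁻¹ ∈ O := ⟨⟨v * h, mul_mem hv hh⟩, by
        show v * h * t * (v * h)⁻¹ = _
        rw [← he]; group⟩
      obtain ⟨z, hz⟩ := hg.2 ⟨_, this⟩
      have hz' := congrArg (fun q : O => q.1) hz
      exact (show z.1 = v * u * v⁻¹ from hz') ▸ z.2.1
    have hR := hFH (F.ι aR) (F.ι_mem_four (.inr (.inl rfl)))
      (fun h => orders.2.2.2.2.1 (F.inj (h.trans (map_one _).symm))) (F.ι (aX * aC))
      (hle (mem_centralizer_singleton_iff.2 (F.commute_mem _).eq))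
    rw [← map_inv, ← map_mul, ← map_mul] at hR
    obtain ⟨b, hb, hb' | hb'⟩ := F.mem_four.1 hR
    · exact orders.2.2.2.2.2.2.2.2.1 (norm_V_five _ orders.2.2.1 (F.inj hb' ▸ hb))
    · exact F.tmul_ne _ _ hb'.symm
  all_goals
    -- odd index with `(n - 1) / 2` odd: `t` acts as an odd permutation
    exfalso
    have hn : H.index % 4 = 3 := by omega
    have h8 : F.four ≤ H := fun u hu => hle
      (mem_centralizer_singleton_iff.2 (F.four_commute hu F.t_mem_four).eq)
    have hcard8 : Nat.card (F.four.subgroupOf H) = 2 ^ (Nat.card H).factorization 2 := by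
      rw [Nat.card_congr (subgroupOfEquivOfLe h8).toEquiv, F.card_four]
      obtain ⟨P⟩ : Nonempty (Sylow 2 H) := inferInstance
      rw [← P.card_eq_multiplicity, SmallGroups.card_sylow_subgroup (a := 3) (m := 105 * k)
        (by rw [hk]; ring) (by
          intro h2
          rcases (Nat.prime_two.dvd_mul).1 h2 with h2 | h2
          · exact absurd h2 (by decide)
          · have := h2.trans (Dvd.intro H.index hki)
            exact absurd this (by decide)) P]
      rfl
    have hconj : ∀ u ∈ H, orderOf u = 2 → ∃ g ∈ H, g * t * g⁻¹ = u := by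
      intro u hu huo
      have hp : IsPGroup 2 (zpowers (⟨u, hu⟩ : H)) := IsPGroup.of_card (n := 1) (by
        rw [Nat.card_zpowers, ← Subgroup.orderOf_coe]; exact huo)
      obtain ⟨P, hP⟩ := hp.exists_le_sylow
      obtain ⟨g, hg⟩ := MulAction.exists_smul_eq ↥H (Sylow.ofCard _ hcard8) P
      have h1 : (⟨u, hu⟩ : H) ∈ (P : Subgroup H) := hP (mem_zpowers _)
      rw [← hg, Sylow.coe_subgroup_smul, Subgroup.mem_pointwise_smul_iff_inv_smul_mem] at h1
      simp only [MulAut.smul_def, MulAut.inv_apply, MulAut.conj_symm_apply] at h1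
      have h2 : (g : G)⁻¹ * u * (g : G) ∈ F.four := h1
      obtain ⟨m, hm, hme⟩ := hfour_conj _ h2 (fun h => by
        have : u = (g : G) * ((g : G)⁻¹ * u * g) * (g : G)⁻¹ := by group
        rw [h, mul_one, mul_inv_cancel] at this
        rw [this, orderOf_one] at huo
        omega)
      refine ⟨g * m, mul_mem g.2 hm, ?_⟩
      calc (g : G) * m * t * ((g : G) * m)⁻¹ = g * (m * t * m⁻¹) * (g : G)⁻¹ := by group
        _ = u := by rw [hme]; group
    have : Fintype (G ⧸ H) := Fintype.ofFinite _
    set τ := MulAction.toPermHom G (G ⧸ H) t with hτ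
    have hfix : Fintype.card (Function.fixedPoints τ) = 1 := by
      rw [Fintype.card_eq_one_iff]
      have htH : t ∈ H := h8 F.t_mem_four
      refine ⟨⟨((1 : G) : G ⧸ H), ?_⟩, ?_⟩
      · show t • ((1 : G) : G ⧸ H) = _
        rw [MulAction.Quotient.smul_coe, smul_eq_mul, mul_one, QuotientGroup.eq, mul_one]
        exact inv_mem htH
      · rintro ⟨q, hq⟩
        induction q using QuotientGroup.induction_on with
        | _ g =>
          have h1 : t • (g : G ⧸ H) = g := hq
          rw [MulAction.Quotient.smul_coe, eq_comm, QuotientGroup.eq, smul_eq_mul, ← mul_assoc] at h1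
          have ho : orderOf (g⁻¹ * t * g) = 2 := by
            have := MulEquiv.orderOf_eq (MulAut.conj g⁻¹) t
            simpa [F.orderOf_t] using this
          obtain ⟨m, hm, hme⟩ := hconj _ h1 ho
          apply Subtype.ext
          show (g : G ⧸ H) = ((1 : G) : G ⧸ H)
          rw [QuotientGroup.eq, mul_one]
          refine inv_mem ?_
          have hgm : g * m ∈ centralizer ({t} : Set G) := by
            rw [mem_centralizer_singleton_iff]
            calc g * m * t = g * (m * t * m⁻¹) * m := by group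
              _ = g * (g⁻¹ * t * g) * m := by rw [hme]
              _ = t * (g * m) := by group
          have := mul_mem (hle hgm) (inv_mem hm)
          rwa [mul_inv_cancel_right] at this
    have hsign : Equiv.Perm.sign τ = -1 := by
      rw [Equiv.Perm.sign_of_pow_two_eq_one (by rw [hτ, ← map_pow, pow_two, F.tt, map_one]), hfix,
        ← Nat.card_eq_fintype_card, ← Subgroup.index_eq_card]
      exact Odd.neg_one_pow (Nat.odd_iff.2 (by omega))
    obtain ⟨L, hL⟩ := Invol.exists_index_two_of_hom
      (Equiv.Perm.sign.comp (MulAction.toPermHom G (G ⧸ H))) (x := t) (by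
        rw [MonoidHom.comp_apply, ← hτ, hsign]; decide)
    rcases (normal_of_index_eq_two hL).eq_bot_or_eq_top with h' | h'
    · rw [h', index_bot, hG] at hL; omega
    · rw [h', index_top] at hL; omega

/-- Generators satisfying the good relations. -/
theorem exists_generators : ∃ x c t' w : G, Good x c t' w ∧ closure {x, c, t', w} = ⊤ := by
  obtain ⟨t', F', w, hgb, hw7, hw1, hwN⟩ := F.exists_config hG
  have hsub : ∀ v ∈ ({F'.ι aX, F'.ι aC, t', w} : Set G), v ∈ closure {F'.ι aX, F'.ι aC, t', w} :=
    fun v hv => subset_closure hv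
  have hle : centralizer ({t'} : Set G) ≤ closure {F'.ι aX, F'.ι aC, t', w} :=
    F'.centralizer_le (hsub _ (by simp)) (hsub _ (by simp)) (hsub _ (by simp))
  have htop := F'.eq_top hG hle (hsub w (by simp)) hw7 hw1 hwN
  refine ⟨F'.ι aX, F'.ι aC, t', w, hgb.resolve_right fun hbad => ?_, htop⟩
  have h := (bad_bound hbad).2
  rw [htop, Subgroup.card_top, hG] at h
  omega

end Card

end Frame

theorem wR_pair {H : Type*} [Group H] (x c : G) (x' c' : H) :
    wR (x, x') (c, c') = (wR x c, wR x' c') := rfl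

theorem Good.prod {H : Type*} [Group H] {x c t w : G} {x' c' t' w' : H} (h : Good x c t w)
    (h' : Good x' c' t' w') : Good (x, x') (c, c') (t, t') (w, w') :=
  ⟨⟨⟨Prod.ext h.1.xx h'.1.xx, Prod.ext h.1.ccc h'.1.ccc, Prod.ext h.1.xc h'.1.xc,
    Prod.ext h.1.tt h'.1.tt, Prod.ext h.1.tx.eq h'.1.tx.eq, Prod.ext h.1.tc.eq h'.1.tc.eq,
    Prod.ext h.1.w7 h'.1.w7, Prod.ext h.1.cw h'.1.cw⟩, Prod.ext h.1.wt h'.1.wt,
    Prod.ext h.1.wr h'.1.wr, Prod.ext h.1.ws h'.1.ws⟩, Prod.ext h.2.eq h'.2.eq⟩

/-- **Uniqueness.** -/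
theorem nonempty_mulEquiv {H : Type*} [Group H] [Finite G] [IsSimpleGroup G] [Finite H]
    [IsSimpleGroup H] (hG : Nat.card G = 175560) (hH : Nat.card H = 175560) {t : G} {u : H}
    (ht : orderOf t = 2) (hu : orderOf u = 2) (e : ↥(centralizer ({t} : Set G)) ≃* ZA)
    (f : ↥(centralizer ({u} : Set H)) ≃* ZA) : Nonempty (G ≃* H) := by
  obtain ⟨F⟩ := exists_frame ht e
  obtain ⟨F'⟩ := exists_frame hu f
  obtain ⟨x, c, t1, w, hgood, htop⟩ := F.exists_generators hG
  obtain ⟨x', c', t1', w', hgood', htop'⟩ := F'.exists_generators hH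
  obtain ⟨hfin, hcard⟩ := good_bound (hgood.prod hgood')
  set D := closure ({(x, x'), (c, c'), (t1, t1'), (w, w')} : Set (G × H)) with hD
  have hsurj : ∀ {K : Type _} [Group K] (π : G × H →* K) (T : Set K),
      closure T = ⊤ → π '' {(x, x'), (c, c'), (t1, t1'), (w, w')} = T →
      Function.Surjective (π.comp D.subtype) := by
    intro K _ π T hT hπ k
    have hk : k ∈ D.map π := by
      rw [hD, MonoidHom.map_closure, hπ, hT]
      exact mem_top k
    obtain ⟨d, hd, rfl⟩ := hk
    exact ⟨⟨d, hd⟩, rfl⟩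
  have h1 := hsurj (MonoidHom.fst G H) _ htop (by
    simp only [MonoidHom.coe_fst, Set.image_insert_eq, Set.image_singleton])
  have h2 : Function.Surjective ((MonoidHom.snd G H).comp D.subtype) := by
    intro k
    have hk : k ∈ D.map (MonoidHom.snd G H) := by
      rw [hD, MonoidHom.map_closure]
      simp only [MonoidHom.coe_snd, Set.image_insert_eq, Set.image_singleton]
      rw [htop']
      exact mem_top k
    obtain ⟨d, hd, rfl⟩ := hk
    exact ⟨⟨d, hd⟩, rfl⟩
  have := hfin
  have hb1 : Function.Bijective ((MonoidHom.fst G H).comp D.subtype) :=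
    (Nat.bijective_iff_surjective_and_card _).2 ⟨h1, le_antisymm (hG ▸ hcard)
      (Nat.card_le_card_of_surjective _ h1)⟩
  have hb2 : Function.Bijective ((MonoidHom.snd G H).comp D.subtype) :=
    (Nat.bijective_iff_surjective_and_card _).2 ⟨h2, le_antisymm (hH ▸ hcard)
      (Nat.card_le_card_of_surjective _ h2)⟩
  exact ⟨(MulEquiv.ofBijective _ hb1).symm.trans (MulEquiv.ofBijective _ hb2)⟩

end Cfsg.Agent.J1Unique
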