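import Cfsg.Agent.CosetEnum.Glue
import Cfsg.Agent.CosetEnum.JOne.Base
import Cfsg.Agent.CosetEnum.JOne.Good
import Cfsg.Agent.CosetEnum.JOne.BadA
import Cfsg.Agent.CosetEnum.JOne.BadBA
import Cfsg.Agent.CosetEnum.JOne.BadBB

/-!
# Janko's first group: relations on `x, c, t, w` and the bounds they give

`x, c` generate `A₅` (they stand for `(12)(45)` and `(234)`), `t` centralises them, `w` has order 7
and is squared by `c`. There are two ways for `w` to act on the four group and `t`; in each an
element of order 3 of `A₅` commutes with `w k w⁻¹` for an element `k` of order 5.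
-/

set_option autoImplicit false

namespace Cfsg.Agent.J1Unique

open Cfsg.Agent.CosetCert Cfsg.Agent.CosetEnum

variable {K : Type*} [Group K]

/-- The word of `(12)(34)`. -/
def wR (x c : K) : K := c * x * c * x * c⁻¹ * x * c⁻¹

/-- The word of `(13)(24)`. -/
def wS (x c : K) : K := c * wR x c * c⁻¹

/-- The word of `(345)`. -/
def wA (x c : K) : K := c * x * c⁻¹ * x * c * x * c

/-- The word of `(125)`. -/
def wB (x c : K) : K := c⁻¹ * x * c * x * c

/-- The word of the element of order 5 of the first configuration. -/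
def wKA (x c : K) : K := x * c⁻¹

/-- The word of the element of order 5 of the second configuration. -/
def wKB (x c : K) : K := c * x * c

/-- Relations of `C(t)` and of `c` on `w`. -/
structure Core (x c t w : K) : Prop where
  xx : x * x = 1
  ccc : c ^ 3 = 1
  xc : (x * c) ^ 5 = 1
  tt : t * t = 1
  tx : Commute t x
  tc : Commute t c
  w7 : w ^ 7 = 1
  cw : c * w * c⁻¹ = w ^ 2

/-- The first action of `w`. -/
structure CaseA (x c t w : K) : Prop extends Core x c t w where
  wt : w * t * w⁻¹ = wR x c
  wr : w * wR x c * w⁻¹ = wS x c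
  ws : w * wS x c * w⁻¹ = t * wR x c

/-- The second action of `w`. -/
structure CaseB (x c t w : K) : Prop extends Core x c t w where
  wt : w * t * w⁻¹ = t * wR x c
  wr : w * (t * wR x c) * w⁻¹ = t * wS x c
  ws : w * (t * wS x c) * w⁻¹ = t * (t * wS x c)

/-- The relations that hold in Janko's first group. -/
def Good (x c t w : K) : Prop :=
  CaseA x c t w ∧ Commute (wA x c) (w * wKA x c * w⁻¹)

/-- The relations of the collapsing configurations. -/
def Bad (x c t w : K) : Prop :=
  (CaseA x c t w ∧ Commute (wB x c) (w * wKA x c * w⁻¹)) ∨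
  (CaseB x c t w ∧ Commute (wA x c) (w * wKB x c * w⁻¹)) ∨
  (CaseB x c t w ∧ Commute (wB x c) (w * wKB x c * w⁻¹))

/-- The values of the letters. -/
def letters (x c t w : K) : ℕ → K
  | 1 => x
  | 2 => c
  | 3 => t
  | 4 => c⁻¹
  | 5 => w
  | 6 => w⁻¹
  | _ => 1

theorem inv_eq_of_mul_self {a : K} (h : a * a = 1) : a⁻¹ = a := inv_eq_of_mul_eq_one_right h

theorem letters_inv {x c t w : K} (h : Core x c t w) (B : BoundData)
    (hB : B.invl = [0, 1, 4, 3, 2, 6, 5]) (l : ℕ) :
    letters x c t w (B.inv l) = (letters x c t w l)⁻¹ := by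
  unfold BoundData.inv
  rw [hB]
  match l with
  | 0 => simp [letters]
  | 1 => simpa [letters] using (inv_eq_of_mul_self h.xx).symm
  | 2 => simp [letters]
  | 3 => simpa [letters] using (inv_eq_of_mul_self h.tt).symm
  | 4 => simp [letters]
  | 5 => simp [letters]
  | 6 => simp [letters]
  | n + 7 => simp [letters]

/-- The subgroup generated by `x, c, t`. -/
def small (x c t : K) : Subgroup K := Subgroup.closure {x, c, t}

theorem small_bound {x c t w : K} (h : Core x c t w) :
    Finite (small x c t) ∧ Nat.card (small x c t) ≤ 120 := by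
  have hB := bound_base CosetEnum.JOne.base_valid (letters x c t w) rfl
    (letters_inv h _ rfl) (by
      intro u hu
      have hx := inv_eq_of_mul_self h.xx
      have ht := inv_eq_of_mul_self h.tt
      simp only [CosetEnum.JOne.base, List.mem_cons, List.not_mem_nil, or_false] at hu
      rcases hu with rfl | rfl | rfl | rfl | rfl | rfl <;> simp only [pval, letters, one_mul]
      · exact h.xx
      · have := h.ccc
        simp only [pow_succ, pow_zero, one_mul] at this
        exact this
      · have := h.xc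
        simp only [pow_succ, pow_zero, one_mul, mul_assoc] at this ⊢
        exact this
      · exact h.tt
      · have := mul_inv_eq_one.2 h.tx.eq
        simpa only [mul_inv_rev, hx, ht, mul_assoc] using this
      · have := mul_inv_eq_one.2 h.tc.eq
        simpa only [mul_inv_rev, hx, ht, mul_assoc] using this) rfl
  have hle : small x c t ≤
      Subgroup.closure (letters x c t w '' {l | l ∈ CosetEnum.JOne.base.letters}) := by
    rw [small, Subgroup.closure_le]
    rintro _ (rfl | rfl | rfl) <;> apply Subgroup.subset_closure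
    · exact ⟨1, by simp [CosetEnum.JOne.base], rfl⟩
    · exact ⟨2, by simp [CosetEnum.JOne.base], rfl⟩
    · exact ⟨3, by simp [CosetEnum.JOne.base], rfl⟩
  have := hB.1
  refine ⟨Finite.of_injective _ (Subgroup.inclusion_injective hle), ?_⟩
  exact (Nat.card_le_card_of_injective _ (Subgroup.inclusion_injective hle)).trans hB.2

/-- Common step from a certificate with all six letters. -/
theorem big_bound {x c t w : K} (h : Core x c t w) (B : BoundData) (hB : B.Valid)
    (hinv : B.invl = [0, 1, 4, 3, 2, 6, 5]) (hs : B.subs = [[1], [2], [3]])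
    (hl : B.letters = [1, 2, 3, 4, 5, 6])
    (hrel : ∀ u ∈ B.words, pval (letters x c t w) u = 1) :
    Finite (Subgroup.closure {x, c, t, w}) ∧
      Nat.card (Subgroup.closure {x, c, t, w}) ≤ B.N * 120 := by
  obtain ⟨hf, hc⟩ := small_bound h
  have hb := BoundData.card_closure_le hB (letters x c t w) rfl (letters_inv h B hinv) hrel
    (small x c t) (by
      intro u hu
      rw [hs] at hu
      simp only [List.mem_cons, List.not_mem_nil, or_false] at hu
      rcases hu with rfl | rfl | rfl <;> simp only [pval, letters, one_mul] <;>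
        exact Subgroup.subset_closure (by simp)) 120 hc
  have hle : Subgroup.closure {x, c, t, w} ≤
      Subgroup.closure (letters x c t w '' {l | l ∈ B.letters}) := by
    rw [Subgroup.closure_le, hl]
    rintro _ (rfl | rfl | rfl | rfl) <;> apply Subgroup.subset_closure
    · exact ⟨1, by simp, rfl⟩
    · exact ⟨2, by simp, rfl⟩
    · exact ⟨3, by simp, rfl⟩
    · exact ⟨5, by simp, rfl⟩
  have := hb.1
  refine ⟨Finite.of_injective _ (Subgroup.inclusion_injective hle), ?_⟩
  exact (Nat.card_le_card_of_injective _ (Subgroup.inclusion_injective hle)).trans hb.2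

theorem wA_rel {x c t w : K} (h : Core x c t w) :
    (∀ {k : K}, Commute (wA x c) (w * k * w⁻¹) →
      c * (x * (c⁻¹ * (x * (c * (x * (c * (w * (k * (w⁻¹ * (c⁻¹ * (x * (c⁻¹ * (x * (c * (x * (c⁻¹ *
        (w * (k⁻¹ * w⁻¹)))))))))))))))))) = 1) ∧
    (∀ {k : K}, Commute (wB x c) (w * k * w⁻¹) →
      c⁻¹ * (x * (c * (x * (c * (w * (k * (w⁻¹ * (c⁻¹ * (x * (c⁻¹ * (x * (c *
        (w * (k⁻¹ * w⁻¹)))))))))))))) = 1) := by
  have hx := inv_eq_of_mul_self h.xx
  refine ⟨fun hk => ?_, fun hk => ?_⟩ <;> have := mul_inv_eq_one.2 hk.eq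
  · simpa only [wA, mul_inv_rev, inv_inv, hx, mul_assoc] using this
  · simpa only [wB, mul_inv_rev, inv_inv, hx, mul_assoc] using this

theorem le_of_one_mul {P : Prop} {n : ℕ} (h : P ∧ n ≤ 1 * 120) : P ∧ n ≤ 120 := by
  simpa using h

theorem good_bound {x c t w : K} (h : Good x c t w) :
    Finite (Subgroup.closure {x, c, t, w}) ∧
      Nat.card (Subgroup.closure {x, c, t, w}) ≤ 175560 := by
  obtain ⟨hA, hk⟩ := h
  have hx := inv_eq_of_mul_self hA.xx
  have ht := inv_eq_of_mul_self hA.tt
  have e := (wA_rel hA.toCore).1 hk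
  have e1 := mul_inv_eq_one.2 hA.cw
  have e2 := mul_inv_eq_one.2 hA.wt
  have e3 := mul_inv_eq_one.2 hA.wr
  have e4 := mul_inv_eq_one.2 hA.ws
  refine big_bound hA.toCore _ CosetEnum.JOne.good_valid rfl rfl rfl ?_
  intro u hu
  simp only [CosetEnum.JOne.good, List.mem_cons, List.not_mem_nil, or_false] at hu
  simp only [wR, wS, wKA, pow_succ, pow_zero, one_mul, mul_inv_rev, inv_inv, hx, ht,
    mul_assoc] at e e1 e2 e3 e4
  rcases hu with rfl | rfl | rfl | rfl | rfl | rfl | rfl | rfl | rfl | rfl | rfl | rfl <;>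
    simp only [pval, letters, one_mul, mul_assoc]
  · exact hA.xx
  · simpa only [pow_succ, pow_zero, one_mul, mul_assoc] using hA.ccc
  · simpa only [pow_succ, pow_zero, one_mul, mul_assoc] using hA.xc
  · exact hA.tt
  · simpa only [mul_inv_rev, hx, ht, mul_assoc] using mul_inv_eq_one.2 hA.tx.eq
  · simpa only [mul_inv_rev, hx, ht, mul_assoc] using mul_inv_eq_one.2 hA.tc.eq
  · simpa only [pow_succ, pow_zero, one_mul, mul_assoc] using hA.w7
  all_goals assumption


theorem bad_bound {x c t w : K} (h : Bad x c t w) :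
    Finite (Subgroup.closure {x, c, t, w}) ∧
      Nat.card (Subgroup.closure {x, c, t, w}) ≤ 120 := by
  rcases h with ⟨hA, hk⟩ | ⟨hA, hk⟩ | ⟨hA, hk⟩
  · have hx := inv_eq_of_mul_self hA.xx
    have ht := inv_eq_of_mul_self hA.tt
    have e := (wA_rel hA.toCore).2 hk
    have e1 := mul_inv_eq_one.2 hA.cw
    have e2 := mul_inv_eq_one.2 hA.wt
    have e3 := mul_inv_eq_one.2 hA.wr
    have e4 := mul_inv_eq_one.2 hA.ws
    refine le_of_one_mul (big_bound hA.toCore _ CosetEnum.JOne.badA_valid rfl rfl rfl ?_)
    intro u hu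
    simp only [CosetEnum.JOne.badA, List.mem_cons, List.not_mem_nil, or_false] at hu
    simp only [wR, wS, wKA, pow_succ, pow_zero, one_mul, mul_inv_rev, inv_inv, hx, ht,
      mul_assoc] at e e1 e2 e3 e4
    rcases hu with rfl | rfl | rfl | rfl | rfl | rfl | rfl | rfl | rfl | rfl | rfl | rfl <;>
      simp only [pval, letters, one_mul, mul_assoc]
    · exact hA.xx
    · simpa only [pow_succ, pow_zero, one_mul, mul_assoc] using hA.ccc
    · simpa only [pow_succ, pow_zero, one_mul, mul_assoc] using hA.xc
    · exact hA.tt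
    · simpa only [mul_inv_rev, hx, ht, mul_assoc] using mul_inv_eq_one.2 hA.tx.eq
    · simpa only [mul_inv_rev, hx, ht, mul_assoc] using mul_inv_eq_one.2 hA.tc.eq
    · simpa only [pow_succ, pow_zero, one_mul, mul_assoc] using hA.w7
    all_goals assumption
  · have hx := inv_eq_of_mul_self hA.xx
    have ht := inv_eq_of_mul_self hA.tt
    have e := (wA_rel hA.toCore).1 hk
    have e1 := mul_inv_eq_one.2 hA.cw
    have e2 := mul_inv_eq_one.2 hA.wt
    have e3 := mul_inv_eq_one.2 hA.wr
    have e4 := mul_inv_eq_one.2 hA.ws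
    refine le_of_one_mul (big_bound hA.toCore _ CosetEnum.JOne.badBA_valid rfl rfl rfl ?_)
    intro u hu
    simp only [CosetEnum.JOne.badBA, List.mem_cons, List.not_mem_nil, or_false] at hu
    simp only [wR, wS, wKB, pow_succ, pow_zero, one_mul, mul_inv_rev, inv_inv, hx, ht,
      mul_assoc] at e e1 e2 e3 e4
    rcases hu with rfl | rfl | rfl | rfl | rfl | rfl | rfl | rfl | rfl | rfl | rfl | rfl <;>
      simp only [pval, letters, one_mul, mul_assoc]
    · exact hA.xx
    · simpa only [pow_succ, pow_zero, one_mul, mul_assoc] using hA.ccc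
    · simpa only [pow_succ, pow_zero, one_mul, mul_assoc] using hA.xc
    · exact hA.tt
    · simpa only [mul_inv_rev, hx, ht, mul_assoc] using mul_inv_eq_one.2 hA.tx.eq
    · simpa only [mul_inv_rev, hx, ht, mul_assoc] using mul_inv_eq_one.2 hA.tc.eq
    · simpa only [pow_succ, pow_zero, one_mul, mul_assoc] using hA.w7
    all_goals assumption
  · have hx := inv_eq_of_mul_self hA.xx
    have ht := inv_eq_of_mul_self hA.tt
    have e := (wA_rel hA.toCore).2 hk
    have e1 := mul_inv_eq_one.2 hA.cw
    have e2 := mul_inv_eq_one.2 hA.wt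
    have e3 := mul_inv_eq_one.2 hA.wr
    have e4 := mul_inv_eq_one.2 hA.ws
    refine le_of_one_mul (big_bound hA.toCore _ CosetEnum.JOne.badBB_valid rfl rfl rfl ?_)
    intro u hu
    simp only [CosetEnum.JOne.badBB, List.mem_cons, List.not_mem_nil, or_false] at hu
    simp only [wR, wS, wKB, pow_succ, pow_zero, one_mul, mul_inv_rev, inv_inv, hx, ht,
      mul_assoc] at e e1 e2 e3 e4
    rcases hu with rfl | rfl | rfl | rfl | rfl | rfl | rfl | rfl | rfl | rfl | rfl | rfl <;>
      simp only [pval, letters, one_mul, mul_assoc]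
    · exact hA.xx
    · simpa only [pow_succ, pow_zero, one_mul, mul_assoc] using hA.ccc
    · simpa only [pow_succ, pow_zero, one_mul, mul_assoc] using hA.xc
    · exact hA.tt
    · simpa only [mul_inv_rev, hx, ht, mul_assoc] using mul_inv_eq_one.2 hA.tx.eq
    · simpa only [mul_inv_rev, hx, ht, mul_assoc] using mul_inv_eq_one.2 hA.tc.eq
    · simpa only [pow_succ, pow_zero, one_mul, mul_assoc] using hA.w7
    all_goals assumption

end Cfsg.Agent.J1Unique
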