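import Cfsg.Agent.J1Unique.Fusion

/-!
# Janko's first group: the element of order 7 in the Sylow 2-normaliser
-/

set_option autoImplicit false

namespace Cfsg.Agent.J1Unique

open Subgroup

variable {G : Type*} [Group G]

theorem conj_iterate {d n : G} {k : ℕ} (h : d * n * d⁻¹ = n ^ k) :
    ∀ m : ℕ, d ^ m * n * (d ^ m)⁻¹ = n ^ (k ^ m) := by
  intro m
  induction m with
  | zero => simp
  | succ m ih =>
    rw [pow_succ' d m, pow_succ k m, show d * d ^ m * n * (d * d ^ m)⁻¹ =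
      d * (d ^ m * n * (d ^ m)⁻¹) * d⁻¹ by group, ih, ← conj_pow, h, ← pow_mul, mul_comm]

theorem commute_of_conj_pow_eq {w t : G} {i j : ℕ} (hij : i ≤ j)
    (h : w ^ i * t * (w ^ i)⁻¹ = w ^ j * t * (w ^ j)⁻¹) : Commute (w ^ (j - i)) t := by
  obtain ⟨m, rfl⟩ := Nat.exists_eq_add_of_le hij
  rw [pow_add, show w ^ i * w ^ m * t * (w ^ i * w ^ m)⁻¹ = w ^ i * (w ^ m * t * (w ^ m)⁻¹) *
    (w ^ i)⁻¹ by group] at h
  have h' := mul_left_cancel (mul_right_cancel h)
  rw [Nat.add_sub_cancel_left, Commute, SemiconjBy]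
  exact (mul_inv_eq_iff_eq_mul.1 h'.symm)

namespace Frame

variable {t : G} (F : Frame t) [Finite G] [IsSimpleGroup G] (hG : Nat.card G = 175560)

include F hG

theorem exists_seven : ∃ n d s : G, n ∈ normalizer (F.four : Set G) ∧
    d ∈ normalizer (F.four : Set G) ∧ s ∈ F.four ∧ s ≠ 1 ∧ orderOf n = 7 ∧ orderOf d = 3 ∧
    Commute d s ∧ ∃ k : ℕ, d * n * d⁻¹ = n ^ k := by
  classical
  have : Fact (Nat.Prime 7) := ⟨by decide⟩
  have : Fact (Nat.Prime 3) := ⟨by decide⟩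
  have : Fact (Nat.Prime 5) := ⟨by decide⟩
  set N := normalizer (F.four : Set G) with hN
  have hconj : ∀ n ∈ N, ∀ u, u ∈ F.four ↔ n * u * n⁻¹ ∈ F.four := fun n hn u =>
    mem_normalizer_iff.1 hn u
  letI : MulAction ↥N G := MulAction.compHom G
    ((MulAut.conj : G →* MulAut G).comp N.subtype)
  have horb : MulAction.orbit ↥N t = {u : G | u ∈ F.four ∧ u ≠ 1} := by
    ext u
    constructor
    · rintro ⟨n, rfl⟩
      refine ⟨(hconj n n.2 t).1 F.t_mem_four, fun h => F.t_ne_one ?_⟩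
      exact conj_eq_one_iff.1 (show (n : G) * t * (n : G)⁻¹ = 1 from h)
    · rintro ⟨hu, hu1⟩
      obtain ⟨n, hn, h⟩ := F.norm_orbit hG hu hu1
      exact ⟨⟨n, hn⟩, h⟩
  have h7 : Nat.card ↥(MulAction.orbit ↥N t) = 7 := by
    rw [horb, Nat.card_coe_set_eq]
    have e : {u : G | u ∈ F.four ∧ u ≠ 1} = (F.four : Set G) \ {1} := rfl
    rw [e, Set.ncard_diff_singleton_of_mem (one_mem _), ← Nat.card_coe_set_eq,
      SetLike.coe_sort_coe, F.card_four]
  have h1 := Nat.card_congr (MulAction.orbitProdStabilizerEquivGroup ↥N t)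
  rw [Nat.card_prod, h7] at h1
  set St := (MulAction.stabilizer ↥N t).map N.subtype with hSt
  have hStcard : Nat.card St = Nat.card (MulAction.stabilizer ↥N t) :=
    card_map_of_injective N.subtype_injective
  have hStmem : ∀ g, g ∈ St ↔ g ∈ N ∧ Commute g t := by
    intro g
    constructor
    · rintro ⟨m, hm, rfl⟩
      exact ⟨m.2, mul_inv_eq_iff_eq_mul.1 (show (m : G) * t * (m : G)⁻¹ = t from hm)⟩
    · rintro ⟨hg, hc⟩
      exact ⟨⟨g, hg⟩, mul_inv_eq_iff_eq_mul.2 hc.eq, rfl⟩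
  have hle : St ≤ centralizer ({t} : Set G) := fun g hg =>
    mem_centralizer_singleton_iff.2 ((hStmem g).1 hg).2.eq
  have h120 : Nat.card St ∣ 120 := F.card_centralizer ▸ card_dvd_of_le hle
  have h8 : 8 ∣ Nat.card St := F.card_four ▸ card_dvd_of_le
    (fun u hu => (hStmem u).2 ⟨le_normalizer hu, F.four_commute hu F.t_mem_four⟩)
  have h3 : 3 ∣ Nat.card St := by
    have hmem : F.ι aC ∈ St := (hStmem _).2 ⟨F.aC_mem_normalizer, F.commute_mem aC⟩
    have := orderOf_dvd_natCard (⟨_, hmem⟩ : St)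
    rwa [← Subgroup.orderOf_coe, orderOf_injective F.ι F.inj,
      orderOf_eq_prime orders.2.1 (by decide +kernel)] at this
  have h5 : ¬ 5 ∣ Nat.card St := by
    intro h5
    obtain ⟨⟨g, hg⟩, hgo⟩ := exists_prime_orderOf_dvd_card' 5 h5
    rw [← Subgroup.orderOf_coe] at hgo
    obtain ⟨hgN, hgt⟩ := (hStmem g).1 hg
    obtain ⟨a, rfl, ha⟩ := F.eq_of_odd_pow hgt (n := 5) (by decide)
      (by rw [← hgo]; exact pow_orderOf_eq_one g)
    have hm := (hconj _ hgN (F.ι aR)).1 (F.ι_mem_four (.inr (.inl rfl)))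
    rw [← map_inv, ← map_mul, ← map_mul] at hm
    obtain ⟨b, hb, h | h⟩ := F.mem_four.1 hm
    · have := norm_V_five a ha (F.inj h ▸ hb)
      have h1 : orderOf (F.ι a) = 5 := hgo
      rw [this, map_one, orderOf_one] at h1
      omega
    · exact F.tmul_ne _ _ h.symm
  have h24 : Nat.card St = 24 := by
    have hmem : Nat.card St ∈ (Nat.divisors 120) := Nat.mem_divisors.2 ⟨h120, by norm_num⟩
    have : ∀ m ∈ Nat.divisors 120, 8 ∣ m → 3 ∣ m → ¬ 5 ∣ m → m = 24 := by decide +kernel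
    exact this _ hmem h8 h3 h5
  rw [← hStcard, h24] at h1
  have hNcard : Nat.card ↥N = 7 * 24 := h1.symm
  obtain ⟨P⟩ : Nonempty (Sylow 7 ↥N) := inferInstance
  have hP : Nat.card (P : Subgroup ↥N) = 7 := SmallGroups.card_sylow_subgroup (a := 1) (m := 24)
    (by rw [hNcard]; rfl) (by decide) P
  have hdvd := SmallGroups.card_sylow_dvd (G := ↥N) (p := 7) (a := 1) (m := 24) (by rw [hNcard]; rfl)
  have hmod := card_sylow_modEq_one 7 ↥N
  have hmul := SmallGroups.card_sylow_mul_card_normalizer P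
  rw [hNcard] at hmul
  have h3' : 3 ∣ Nat.card ↥(normalizer ((P : Subgroup ↥N) : Set ↥N)) := by
    have : ∀ m ∈ Nat.divisors 24, m % 7 = 1 → m = 1 ∨ m = 8 := by decide +kernel
    rcases this _ (Nat.mem_divisors.2 ⟨hdvd, by norm_num⟩) hmod with h | h <;> rw [h] at hmul <;>
      omega
  obtain ⟨⟨d, hdP⟩, hdo⟩ := exists_prime_orderOf_dvd_card' 3 h3'
  rw [← Subgroup.orderOf_coe, ← Subgroup.orderOf_coe] at hdo
  obtain ⟨⟨⟨n, hnN⟩, hnP⟩, hno⟩ := exists_prime_orderOf_dvd_card' 7 (G := ↥(P : Subgroup ↥N))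
    (dvd_of_eq hP.symm)
  rw [← Subgroup.orderOf_coe] at hno
  have hzp : (P : Subgroup ↥N) = zpowers (⟨n, hnN⟩ : ↥N) := by
    refine (eq_of_le_of_card_ge (zpowers_le.2 hnP) ?_).symm
    rw [Nat.card_zpowers, hno, hP]
  have hk : d * ⟨n, hnN⟩ * d⁻¹ ∈ zpowers (⟨n, hnN⟩ : ↥N) :=
    hzp ▸ (mem_normalizer_iff.1 hdP _).1 hnP
  rw [← mem_powers_iff_mem_zpowers] at hk
  obtain ⟨k, hk⟩ := hk
  rw [← Subgroup.orderOf_coe] at hno
  -- `d` fixes one of the seven involutions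
  let σ : Equiv.Perm {u : G // u ∈ F.four ∧ u ≠ 1} :=
    (MulAut.conj (d : G)).toEquiv.subtypeEquiv fun u => by
      simp only [MulEquiv.toEquiv_eq_coe, EquivLike.coe_coe, MulAut.conj_apply, ne_eq,
        conj_eq_one_iff]
      rw [← hconj (d : G) d.2 u]
  have hσ : σ ^ 3 ^ 1 = 1 := by
    apply Equiv.ext
    intro u
    apply Subtype.ext
    have hd3 : (d : G) ^ 3 = 1 := by rw [← hdo]; exact pow_orderOf_eq_one _
    rw [pow_one, pow_succ, pow_succ, pow_one]
    show (d : G) * ((d : G) * ((d : G) * u * (d : G)⁻¹) * (d : G)⁻¹) * (d : G)⁻¹ = u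
    calc (d : G) * ((d : G) * ((d : G) * u * (d : G)⁻¹) * (d : G)⁻¹) * (d : G)⁻¹
        = (d : G) ^ 3 * u * ((d : G) ^ 3)⁻¹ := by simp only [pow_succ, pow_zero, one_mul,
            mul_inv_rev, mul_assoc]
      _ = u := by rw [hd3, one_mul, inv_one, mul_one]
  have : Fintype {u : G // u ∈ F.four ∧ u ≠ 1} := Fintype.ofFinite _
  obtain ⟨⟨s, hs, hs1⟩, hfix⟩ := Equiv.Perm.exists_fixed_point_of_prime
    (α := {u : G // u ∈ F.four ∧ u ≠ 1}) (p := 3) (by
    rw [← Nat.card_eq_fintype_card]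
    have : Nat.card {u : G // u ∈ F.four ∧ u ≠ 1} = 7 := by
      rw [← h7, horb]; rfl
    rw [this]
    decide) hσ
  exact ⟨n, d, s, hnN, d.2, hs, hs1, hno, hdo,
    mul_inv_eq_iff_eq_mul.1 (congrArg Subtype.val hfix), k, (congrArg Subtype.val hk).symm⟩

/-- The element of order 7 moving `t` to a given involution, with its partner of order 3. -/
theorem exists_w {r : G} (hr : r ∈ F.four) (hr1 : r ≠ 1) :
    ∃ (a : A5) (w : G), a ^ 3 = 1 ∧ a ≠ 1 ∧ InV (a * aR * a⁻¹) ∧ InV (a * aS * a⁻¹) ∧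
      w ∈ normalizer (F.four : Set G) ∧ w ^ 7 = 1 ∧
      F.ι a * w * (F.ι a)⁻¹ = w ^ 2 ∧ w * t * w⁻¹ = r ∨ r = t := by
  classical
  by_cases hrt : r = t
  · exact ⟨1, 1, .inr hrt⟩
  obtain ⟨n0, d0, s, hn0, hd0, hs, hs1, hn7, hd3, hds, k, hk⟩ := F.exists_seven hG
  obtain ⟨m, hm, hms⟩ := F.norm_orbit hG hs hs1
  set N := normalizer (F.four : Set G)
  set n := m⁻¹ * n0 * m with hn
  set d := m⁻¹ * d0 * m with hd
  have hnN : n ∈ N := mul_mem (mul_mem (inv_mem hm) hn0) hm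
  have hdN : d ∈ N := mul_mem (mul_mem (inv_mem hm) hd0) hm
  have hno : orderOf n = 7 := by
    rw [← hn7, hn]
    simpa using MulEquiv.orderOf_eq (MulAut.conj m⁻¹) n0
  have hdo : orderOf d = 3 := by
    rw [← hd3, hd]
    simpa using MulEquiv.orderOf_eq (MulAut.conj m⁻¹) d0
  have hdt : Commute d t := by
    have : t = m⁻¹ * s * m := by rw [← hms]; group
    rw [this, hd, Commute, SemiconjBy]
    calc m⁻¹ * d0 * m * (m⁻¹ * s * m) = m⁻¹ * (d0 * s) * m := by group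
      _ = m⁻¹ * (s * d0) * m := by rw [hds.eq]
      _ = _ := by group
  have hdn : d * n * d⁻¹ = n ^ k := by
    have : n ^ k = m⁻¹ * n0 ^ k * m := by
      rw [hn]
      rw [show m⁻¹ * n0 * m = m⁻¹ * n0 * (m⁻¹)⁻¹ by rw [inv_inv], conj_pow, inv_inv]
    rw [this, ← hk, hd, hn]
    group
  obtain ⟨a, hda, ha3⟩ := F.eq_of_odd_pow hdt (n := 3) (by decide)
    (by rw [← hdo]; exact pow_orderOf_eq_one d)
  have ha1 : a ≠ 1 := by
    rintro rfl
    rw [map_one] at hda
    rw [hda, orderOf_one] at hdo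
    omega
  have hconj : ∀ u ∈ F.four, d * u * d⁻¹ ∈ F.four := fun u hu =>
    (mem_normalizer_iff.1 hdN u).1 hu
  have hV : ∀ b, InV b → InV (a * b * a⁻¹) := by
    intro b hb
    have := hconj _ (F.ι_mem_four hb)
    rw [hda, ← map_inv, ← map_mul, ← map_mul] at this
    obtain ⟨c, hc, h | h⟩ := F.mem_four.1 this
    · exact F.inj h ▸ hc
    · exact absurd h.symm (F.tmul_ne _ _)
  have hR := hV aR (.inr (.inl rfl))
  have hS := hV aS (.inr (.inr (.inl rfl)))
  obtain ⟨hnV, -⟩ := norm_V_three a ha3 ha1 hR hS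
  have hnt : ∀ i, 0 < i → i < 7 → ¬ Commute (n ^ i) t := fun i h0 h7 => by
    refine F.not_commute ?_
    have : orderOf (n ^ i) = 7 := by
      rw [orderOf_pow' n h0.ne', hno]
      have : Nat.Coprime 7 i := (Nat.prime_seven.coprime_iff_not_dvd).2
        (Nat.not_dvd_of_pos_of_lt h0 h7)
      rw [Nat.Coprime] at this
      rw [this]
    rw [this]
    decide
  let f : Fin 7 → {u : G // u ∈ F.four ∧ u ≠ 1} := fun i =>
    ⟨n ^ (i : ℕ) * t * (n ^ (i : ℕ))⁻¹,
      (mem_normalizer_iff.1 (pow_mem hnN _) t).1 F.t_mem_four,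
      fun h => F.t_ne_one (conj_eq_one_iff.1 h)⟩
  have hfinj : Function.Injective f := by
    intro i j hij
    have h := congrArg Subtype.val hij
    rcases lt_trichotomy (i : ℕ) (j : ℕ) with hlt | heq | hlt
    · exact absurd (commute_of_conj_pow_eq hlt.le h) (hnt _ (by omega) (by omega))
    · exact Fin.ext heq
    · exact absurd (commute_of_conj_pow_eq hlt.le h.symm) (hnt _ (by omega) (by omega))
  have : Fintype {u : G // u ∈ F.four ∧ u ≠ 1} := Fintype.ofFinite _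
  have hfbij : Function.Bijective f := by
    refine (Fintype.bijective_iff_injective_and_card _).2 ⟨hfinj, ?_⟩
    rw [Fintype.card_fin, ← Nat.card_eq_fintype_card]
    have e : Nat.card {u : G // u ∈ F.four ∧ u ≠ 1} = ((F.four : Set G) \ {1}).ncard :=
      Nat.card_coe_set_eq _
    rw [e, Set.ncard_diff_singleton_of_mem (one_mem _), ← Nat.card_coe_set_eq,
      SetLike.coe_sort_coe, F.card_four]
  have hd3 : d ^ 3 = 1 := by rw [← hdo]; exact pow_orderOf_eq_one d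
  have hk3 : k ^ 3 % 7 = 1 := by
    have h := conj_iterate hdn 3
    rw [hd3, one_mul, inv_one, mul_one] at h
    have : n ^ 1 = n ^ (k ^ 3) := by rw [pow_one]; exact h
    rw [pow_eq_pow_iff_modEq, hno] at this
    exact this.symm
  have hkcases : k % 7 = 1 ∨ k % 7 = 2 ∨ k % 7 = 4 := by
    rw [Nat.pow_mod] at hk3
    have := Nat.mod_lt k (show 7 > 0 by decide)
    interval_cases h : k % 7 <;> omega
  have hkne : k % 7 ≠ 1 := by
    intro h1
    have hdn' : Commute d n := by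
      have : n ^ k = n := by rw [← pow_mod_orderOf, hno, h1, pow_one]
      rw [this] at hdn
      exact mul_inv_eq_iff_eq_mul.1 hdn
    have hall : ∀ u ∈ F.four, Commute d u := by
      intro u hu
      by_cases hu1 : u = 1
      · rw [hu1]; exact Commute.one_right d
      obtain ⟨i, hi⟩ := hfbij.2 ⟨u, hu, hu1⟩
      have := congrArg Subtype.val hi
      show Commute d u
      rw [show u = n ^ (i : ℕ) * t * (n ^ (i : ℕ))⁻¹ from this.symm]
      exact ((hdn'.pow_right _).mul_right hdt).mul_right ((hdn'.pow_right _).inv_right)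
    apply hnV
    have := (hall _ (F.ι_mem_four (.inr (.inl rfl)))).eq
    rw [hda, ← map_mul, ← map_mul] at this
    exact inV_of_commute a (F.inj this)
  obtain ⟨a', ha', ha'1, hR', hS', hsq⟩ : ∃ a' : A5, a' ^ 3 = 1 ∧ a' ≠ 1 ∧
      InV (a' * aR * a'⁻¹) ∧ InV (a' * aS * a'⁻¹) ∧ F.ι a' * n * (F.ι a')⁻¹ = n ^ 2 := by
    rcases hkcases with h | h | h
    · exact absurd h hkne
    · refine ⟨a, ha3, ha1, hR, hS, ?_⟩
      rw [← hda, hdn, ← pow_mod_orderOf, hno, h]
    · refine ⟨a * a, ?_, ?_, ?_, ?_, ?_⟩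
      · rw [← pow_two, ← pow_mul, pow_mul', ha3, one_pow]
      · intro h2
        apply ha1
        rwa [pow_succ, pow_two, h2, one_mul] at ha3
      · have := hV _ hR
        simpa only [mul_inv_rev, mul_assoc] using this
      · have := hV _ hS
        simpa only [mul_inv_rev, mul_assoc] using this
      · rw [map_mul, ← hda, ← pow_two, conj_iterate hdn 2, ← pow_mod_orderOf, hno, Nat.pow_mod, h]
  obtain ⟨i, hi⟩ := hfbij.2 ⟨r, hr, hr1⟩
  have hi' : n ^ (i : ℕ) * t * (n ^ (i : ℕ))⁻¹ = r := congrArg Subtype.val hi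
  refine ⟨a', n ^ (i : ℕ), .inl ⟨ha', ha'1, hR', hS', pow_mem hnN _, ?_, ?_, hi'⟩⟩
  · rw [← pow_mul, mul_comm, pow_mul, show n ^ 7 = 1 by rw [← hno]; exact pow_orderOf_eq_one n,
      one_pow]
  · rw [← conj_pow, hsq, ← pow_mul, ← pow_mul, mul_comm]

end Frame

end Cfsg.Agent.J1Unique
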